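import Cfsg.Agent.Lib.Inter3185.Basic
import Cfsg.Agent.Lib.Walter.KnownFacts
import Cfsg.Agent.Lib.Walter66.PSLFacts
import Cfsg.Agent.Lib.Alternating.Aut
import Cfsg.Agent.Lib.SporMatrix.J1
import Cfsg.Agent.S1644
import Cfsg.Agent.Lib.Walter.Interface
import Cfsg.Agent.Lib.CITSuzuki.Lists

/-!
# The case of abelian Sylow 2-subgroups (helper88)
-/

set_option autoImplicit false
set_option linter.style.haveILetI false
set_option linter.unusedSectionVars false

namespace Cfsg.Agent.Inter3185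

open Cfsg.Agent.Lib Cfsg.Agent.Lib.Inv59.Basic
open scoped Pointwise

universe u

variable {G : Type u} [Group G] [Finite G]

/-- `PSL(2,q)`, `q > 5`: an involution commutes with a non-trivial element of odd order whose
centraliser has a single involution. -/
theorem psl_odd_element {F : Type} [Field F] [Fintype F] (h2 : (2 : F) ≠ 0)
    (hF : Fintype.card F % 8 = 3 ∨ Fintype.card F % 8 = 5) (h11 : 11 ≤ Fintype.card F)
    {L : Type u} [Group L] [Finite L] (e : L ≃* Matrix.ProjectiveSpecialLinearGroup (Fin 2) F)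
    {w : L} (hw : orderOf w = 2) :
    ∃ d : L, d * w = w * d ∧ d ≠ 1 ∧ Odd (orderOf d) ∧
      ∀ x y : L, x * d = d * x → y * d = d * y → x * x = 1 → y * y = 1 → x ≠ 1 → y ≠ 1 → x = y := by
  classical
  haveI : Fact (Nat.Prime 2) := ⟨Nat.prime_two⟩
  obtain ⟨p, hp⟩ := CharP.exists F
  haveI := hp
  haveI : Fact p.Prime := ⟨CharP.char_is_prime F p⟩
  have hp2 : p ≠ 2 := fun e2 => h2 (by subst e2; exact CharTwo.two_eq_zero)
  set C := Subgroup.centralizer ({w} : Set L)
  have hcard : 4 < Nat.card ↥C := by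
    refine lt_of_lt_of_eq (Walter.Known.psl_four_lt hp2 h11 (t := e w)
      (by rw [MulEquiv.orderOf_eq, hw])) (Nat.card_congr ?_)
    refine (e.toEquiv.subtypeEquiv fun x => ?_).symm
    exact (Walter.Known.map_centralizer_iff e).symm
  obtain ⟨-, ho⟩ := Walter.Known.odd_facts hF (by omega) e
  obtain ⟨P⟩ : Nonempty (Sylow 2 ↥C) := inferInstance
  have hnp : ¬ IsPGroup 2 ↥C := fun hp' => by
    obtain ⟨Q, hQ⟩ := hp'.exists_le_sylow
    have := Subgroup.card_le_of_le hQ
    rw [ho.four Q] at this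
    omega
  obtain ⟨d, hd, hd1⟩ : ∃ d : ↥C, Odd (orderOf d) ∧ d ≠ 1 := by
    by_contra hne
    push Not at hne
    refine hnp fun x => ?_
    obtain ⟨k, m, hm, hx⟩ := Nat.exists_eq_two_pow_mul_odd (orderOf_pos x).ne'
    refine ⟨k, hne _ ?_⟩
    rw [orderOf_pow_of_dvd (pow_ne_zero _ two_ne_zero) (hx ▸ dvd_mul_right _ _), hx,
      Nat.mul_div_cancel_left _ (Nat.two_pow_pos k)]
    exact hm
  refine ⟨d, Subgroup.mem_centralizer_singleton_iff.1 d.2, fun e1 => hd1 (Subtype.ext e1),
    by rwa [Subgroup.orderOf_coe], fun x y hx hy hxx hyy hx1 hy1 => e.injective ?_⟩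
  refine (Walter66.odd_centralizer h2 (a := e d) (by rwa [MulEquiv.orderOf_eq, Subgroup.orderOf_coe])
    (fun e1 => hd1 (Subtype.ext ((map_eq_one_iff e e.injective).1 e1))) (x := e x) (y := e y)
    (by rw [← map_mul, ← map_mul, hx]) (by rw [← map_mul, ← map_mul, hy])).2
    (by rw [← map_mul, hxx, map_one]) (by rw [← map_mul, hyy, map_one])
    (fun e1 => hx1 ((map_eq_one_iff e e.injective).1 e1))
    (fun e1 => hy1 ((map_eq_one_iff e e.injective).1 e1))

/-- A group of Janko-Ree type with `VHyp` is the first group of Janko. -/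
theorem isJ1_of_isJR (hV : VHyp G) (h : Walter.IsJR G) : Cfsg.IsJ1 G := by
  classical
  haveI : Fact (Nat.Prime 2) := ⟨Nat.prime_two⟩
  haveI := h.simple
  obtain ⟨S₀⟩ : Nonempty (Sylow 2 G) := inferInstance
  obtain ⟨u, hu⟩ := exists_prime_orderOf_dvd_card' 2 (G := G)
    ((dvd_of_eq rfl).trans ((show 2 ∣ 8 by norm_num).trans
      (h.card_sylow S₀ ▸ Subgroup.card_subgroup_dvd_card _)))
  obtain ⟨E, E₀, ⟨⟨huC, hEC, hcomm, hdis, hsup⟩, hle, hnor, hodd, hO, hcent⟩⟩ := h.centralizer u hu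
  obtain ⟨F, _, _, hF, h5, ⟨e⟩⟩ := hO
  have hu2 : u * u = 1 := by rw [← pow_two, ← hu, pow_orderOf_eq_one]
  have hu1 : u ≠ 1 := fun e1 => by rw [e1, orderOf_one] at hu; norm_num at hu
  have huE : u ∉ E := fun hm => hu1
    (Subgroup.mem_bot.1 (hdis ▸ Subgroup.mem_inf.2 ⟨Subgroup.mem_zpowers u, hm⟩))
  have hq5 : Fintype.card F = 5 := by
    by_contra hne
    have h11 : 11 ≤ Fintype.card F := by
      rcases lt_or_ge (Fintype.card F) 11 with hlt | hge
      · have := (FiniteField.isPrimePow_card F)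
        have : Fintype.card F ≠ 6 ∧ Fintype.card F ≠ 10 := ⟨fun e6 => by omega, fun e10 => by omega⟩
        omega
      · exact hge
    have h2 : (2 : F) ≠ 0 := PSLTwo.Sylow.two_ne_zero_of_odd (by omega)
    obtain ⟨-, ho⟩ := Walter.Known.odd_facts hF (by omega) e
    obtain ⟨V⟩ : Nonempty (Sylow 2 ↥E₀) := inferInstance
    set W : Subgroup G := (V : Subgroup ↥E₀).map E₀.subtype with hW
    have hWp : IsPGroup 2 ↥W := V.isPGroup'.map _
    have hWE : W ≤ E₀ := Subgroup.map_subtype_le _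
    obtain ⟨w₀, hw₀⟩ := exists_prime_orderOf_dvd_card' 2 (G := ↥(V : Subgroup ↥E₀))
      (by rw [ho.four V]; norm_num)
    set w : ↥E₀ := (w₀ : ↥E₀) with hwdef
    have hwV : w ∈ (V : Subgroup ↥E₀) := w₀.2
    have hw : orderOf w = 2 := by rw [hwdef, Subgroup.orderOf_coe, hw₀]
    obtain ⟨d, hdw, hd1, hdodd, huniq⟩ := psl_odd_element h2 hF h11 e hw
    have hWu : ∀ x ∈ W, x * u = u * x := fun x hx =>
      (hcomm u (Subgroup.mem_zpowers u) x (hle (hWE hx))).symm
    set X : Subgroup G := Subgroup.zpowers u ⊔ W with hX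
    have hXp : IsPGroup 2 ↥X := by
      refine IsPGroup.to_sup_of_normal_right' (IsPGroup.of_card (n := 1)
        (by rw [Nat.card_zpowers, hu, pow_one])) hWp ?_
      rw [Subgroup.zpowers_le]
      exact mem_normalizer_of_conj_mem _ fun x hx => by
        rwa [← hWu x hx, mul_inv_cancel_right]
    obtain ⟨S, hS⟩ := hXp.exists_le_sylow
    have huS : u ∈ (S : Subgroup G) := hS (Subgroup.mem_sup_left (Subgroup.mem_zpowers u))
    have hWS : ∀ x : ↥E₀, x ∈ (V : Subgroup ↥E₀) → (x : G) ∈ (S : Subgroup G) := fun x hx =>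
      hS (Subgroup.mem_sup_right ⟨x, hx, rfl⟩)
    have hwu : (w : G) ≠ u := fun e1 => huE (e1 ▸ hle w.2)
    have huc : Cfsg.IsTwoCentralInvolution u := by
      obtain ⟨⟨hc⟩⟩ := (h.elementary S).1
      exact ⟨hu, S, huS, fun x hx => congrArg Subtype.val (hc ⟨x, hx⟩ ⟨u, huS⟩)⟩
    have hw2 : (w : G) * w = 1 := by
      rw [← Subgroup.coe_mul, ← pow_two, ← hw, pow_orderOf_eq_one, Subgroup.coe_one]
    have hwu' : (w : G) * u = u * w := (hcomm u (Subgroup.mem_zpowers u) w (hle w.2)).symm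
    have hdu : (d : G) * u = u * d := (hcomm u (Subgroup.mem_zpowers u) d (hle d.2)).symm
    have hdw' : (d : G) * w = w * d := congrArg Subtype.val hdw
    have hS' : S = (d : G) • S := hV.uniq huc (hWS w hwV) huS
      (mem_smul_iff.2 (by rw [mul_assoc, ← hdw', inv_mul_cancel_left]; exact hWS w hwV))
      (mem_smul_iff.2 (by rw [mul_assoc, ← hdu, inv_mul_cancel_left]; exact huS))
      hw2 hwu' (fun e1 => by
        rw [show w = 1 from Subtype.ext e1, orderOf_one] at hw; norm_num at hw) hwu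
    have hdN : (d : G) ∈ Nrm S := Sylow.smul_eq_iff_mem_normalizer.1 hS'.symm
    -- `S ⊓ E₀` is the Sylow subgroup `V`
    have hVS : (V : Subgroup ↥E₀) = (S : Subgroup G).subgroupOf E₀ :=
      (V.is_maximal' (S.isPGroup'.comap_of_injective E₀.subtype E₀.subtype_injective)
        fun x hx => hWS x hx).symm
    have hmove : ∀ x ∈ (V : Subgroup ↥E₀), d * x * d⁻¹ ∈ (V : Subgroup ↥E₀) := fun x hx => by
      rw [hVS, Subgroup.mem_subgroupOf] at hx ⊢
      exact (Subgroup.mem_normalizer_iff.1 hdN _).1 hx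
    obtain ⟨x, hxV, hx1, hxw⟩ : ∃ x ∈ (V : Subgroup ↥E₀), x ≠ 1 ∧ x ≠ w := by
      by_contra hne'
      push Not at hne'
      have hsub : ((V : Subgroup ↥E₀) : Set ↥E₀) ⊆ {1, w} := fun x hx => by
        by_cases h1 : x = 1
        · exact Or.inl h1
        · exact Or.inr (hne' x hx h1)
      have h3 := Set.ncard_le_ncard hsub
      have h4 : ((V : Subgroup ↥E₀) : Set ↥E₀).ncard = 4 := by
        rw [← Nat.card_coe_set_eq]; exact ho.four V
      have h6 := Set.ncard_insert_le (1 : ↥E₀) {w}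
      rw [Set.ncard_singleton] at h6
      omega
    have hV2 : ∀ y ∈ (V : Subgroup ↥E₀), y * y = 1 := fun y hy =>
      Subtype.ext (by
        rw [← pow_two]
        exact (h.elementary S).2 (y : G) (hWS y hy))
    have hVcases : ∀ y ∈ (V : Subgroup ↥E₀), y = 1 ∨ y = w ∨ y = x ∨ y = x * w := by
      intro y hy
      by_contra hne'
      push Not at hne'
      have hww : w ≠ 1 := fun e1 => by rw [e1, orderOf_one] at hw; norm_num at hw
      have hxw1 : x * w ≠ 1 := fun e1 => hxw (mul_right_cancel (e1.trans (hV2 w hwV).symm))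
      have hsub : ({1, w, x, x * w, y} : Set ↥E₀) ⊆ ((V : Subgroup ↥E₀) : Set ↥E₀) := by
        intro a ha
        rcases ha with rfl | rfl | rfl | rfl | rfl
        exacts [one_mem _, hwV, hxV, mul_mem hxV hwV, hy]
      have h3 := Set.ncard_le_ncard hsub
      have h4 : ((V : Subgroup ↥E₀) : Set ↥E₀).ncard = 4 := by
        rw [← Nat.card_coe_set_eq]; exact ho.four V
      have h5' : ({1, w, x, x * w, y} : Set ↥E₀).ncard = 5 := by
        rw [Set.ncard_insert_of_notMem (by simp [Ne.symm hww, Ne.symm hx1, Ne.symm hxw1, Ne.symm hne'.1]),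
          Set.ncard_insert_of_notMem (by
            simp [Ne.symm hxw, Ne.symm hne'.2.1]
            exact fun e1 => hx1 e1),
          Set.ncard_insert_of_notMem (by simp [hww, Ne.symm hne'.2.2.1]),
          Set.ncard_pair (Ne.symm hne'.2.2.2)]
      omega
    -- an element of odd order fixing `w` fixes `x`
    have hdx : x * d = d * x := by
      rcases hVcases _ (hmove x hxV) with e1 | e1 | e1 | e1
      · exact absurd (conj_eq_one_iff.1 e1) hx1
      · exact absurd (show x = w by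
          rw [← mul_right_inj d, ← mul_left_inj d⁻¹, e1, hdw, mul_inv_cancel_right]) hxw
      · exact (mul_inv_eq_iff_eq_mul.1 e1).symm
      · have h2d : d * d * x = x * (d * d) := by
          have e3 : d * x = x * w * d := mul_inv_eq_iff_eq_mul.1 e1
          calc d * d * x = d * (x * w * d) := by rw [mul_assoc, e3]
            _ = d * x * (d * w) := by rw [hdw]; group
            _ = x * (w * w) * (d * d) := by rw [e3, hdw]; simp only [mul_assoc]; rw [← mul_assoc d w d, hdw, mul_assoc w d d]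
            _ = x * (d * d) := by rw [hV2 w hwV, mul_one]
        obtain ⟨m, hm⟩ := hdodd
        have hc : Commute ((d * d) ^ (m + 1)) x := (show Commute (d * d) x from h2d).pow_left _
        rw [← pow_two, ← pow_mul, show 2 * (m + 1) = orderOf d + 1 by omega, pow_succ,
          pow_orderOf_eq_one, one_mul] at hc
        exact hc.eq.symm
    exact hxw (huniq x w hdx hdw.symm (hV2 x hxV) (hV2 w hwV) hx1
      (fun e1 => by rw [e1, orderOf_one] at hw; norm_num at hw))
  obtain ⟨e5⟩ := Linear.SmallIso.nonempty_psl_two_five hq5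
  set ε : ↥E₀ ≃* alternatingGroup (Fin 5) := e.trans e5
  -- `E = E₀`
  have hEE : E = E₀ := by
    refine le_antisymm (Subgroup.subgroupOf_eq_top.1 (Subgroup.index_eq_one.1 ?_)) hle
    set N := E₀.subgroupOf E with hN
    haveI := hnor
    let ρ : ↥E →* MulAut ↥N := MulAut.conjNormal
    have hinj : Function.Injective ρ := by
      rw [← MonoidHom.ker_eq_bot_iff, Subgroup.eq_bot_iff_forall]
      intro g hg
      have hgc : (g : G) ∈ E ⊓ Subgroup.centralizer (E₀ : Set G) :=
        ⟨g.2, fun a ha => by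
          have h1 := DFunLike.congr_fun (MonoidHom.mem_ker.1 hg) (⟨⟨a, hle ha⟩, ha⟩ : ↥N)
          have h2 : (g : G) * a * (g : G)⁻¹ = a := by
            have := congrArg (fun z : ↥N => ((z : ↥E) : G)) h1
            simpa [ρ, MulAut.conjNormal_apply] using this
          exact (mul_inv_eq_iff_eq_mul.1 h2).symm⟩
      rw [hcent, Subgroup.mem_bot] at hgc
      exact Subtype.ext hgc
    let η : ↥N ≃* alternatingGroup (Fin 5) := (Subgroup.subgroupOfEquivOfLe hle).trans ε
    have hA : Nat.card (MulAut ↥N) = 120 := by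
      rw [Nat.card_congr (MulAut.congr η).toEquiv, Alternating.nat_card_mulAut_alt (by simp) (by simp)]
      rfl
    have hfin : Finite (MulAut ↥N) := Nat.finite_of_card_ne_zero (by rw [hA]; norm_num)
    have hdvd : Nat.card ↥E ∣ 120 := hA ▸ Subgroup.card_dvd_of_injective ρ hinj
    have hc : Nat.card ↥N = 60 := by
      rw [Nat.card_congr η.toEquiv, nat_card_alternatingGroup, Nat.card_fin]; rfl
    have hm := N.card_mul_index
    rw [hc] at hm
    rw [← hm, show 120 = 60 * 2 from rfl] at hdvd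
    have h2 := Nat.dvd_of_mul_dvd_mul_left (by norm_num) hdvd
    rcases (Nat.dvd_prime Nat.prime_two).1 h2 with h1 | h1
    · exact h1
    · rw [h1] at hodd; exact absurd hodd (by decide)
  subst hEE
  set C := Subgroup.centralizer ({u} : Set G)
  let Φ : ↥(Subgroup.zpowers u) × ↥E →* ↥C :=
    MonoidHom.mk' (fun p => ⟨p.1 * p.2, mul_mem (huC p.1.2) (hEC p.2.2)⟩) fun p q => Subtype.ext (by
      show (p.1 : G) * q.1 * (p.2 * q.2) = p.1 * p.2 * (q.1 * q.2)
      have := hcomm q.1 q.1.2 p.2 p.2.2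
      calc (p.1 : G) * q.1 * (p.2 * q.2) = p.1 * (q.1 * p.2) * q.2 := by group
        _ = p.1 * (p.2 * q.1) * q.2 := by rw [this]
        _ = _ := by group)
  have hΦ : Function.Bijective Φ := by
    refine ⟨?_, fun ⟨c, hc⟩ => ?_⟩
    · rw [← MonoidHom.ker_eq_bot_iff, Subgroup.eq_bot_iff_forall]
      intro p hp
      have h1 : (p.1 : G) * p.2 = 1 := congrArg Subtype.val hp
      have h2 : (p.1 : G) ∈ Subgroup.zpowers u ⊓ E :=
        ⟨p.1.2, by rw [eq_inv_of_mul_eq_one_left h1]; exact E.inv_mem p.2.2⟩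
      rw [hdis, Subgroup.mem_bot] at h2
      rw [h2, one_mul] at h1
      exact Prod.ext (Subtype.ext h2) (Subtype.ext h1)
    · have hn : E ≤ Subgroup.centralizer (Subgroup.zpowers u : Set G) := fun b hb a ha => hcomm a ha b hb
      rw [← hsup] at hc
      have hc' : c ∈ ((Subgroup.zpowers u : Subgroup G) : Set G) * (E : Set G) := by
        rw [← Subgroup.coe_mul_of_right_le_normalizer_left _ _
          (hn.trans (Subgroup.centralizer_le_normalizer _))]
        exact hc
      obtain ⟨a, ha, b, hb, rfl⟩ := hc'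
      exact ⟨(⟨a, ha⟩, ⟨b, hb⟩), rfl⟩
  obtain ⟨S, hSu⟩ := (IsPGroup.of_card (p := 2) (n := 1)
    (show Nat.card ↥(Subgroup.zpowers u) = 2 ^ 1 by rw [Nat.card_zpowers, hu, pow_one])).exists_le_sylow
  obtain ⟨f⟩ : Cfsg.Spor.IsoJ1 G := Cfsg.Agent.S1644.result S (h.elementary S).1 (h.card_sylow S) u hu
    ((MulEquiv.ofBijective Φ hΦ).symm.trans (MulEquiv.prodCongr
      (mulEquivOfPrimeCardEq (p := 2) (by rw [Nat.card_zpowers, hu]) (by simp)) ε))
  exact ⟨h.simple, (Nat.card_congr f.toEquiv).trans SporMatrix.J1.card_J1⟩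

/-- The abelian case. -/
theorem families_of_abelian [IsSimpleGroup G] (hK : Walter.PropKnown.{u}) (hG : ¬ IsMulCommutative G)
    (hV : VHyp G) (S : Sylow 2 G) (hS : IsMulCommutative ↥(S : Subgroup G)) : Families G := by
  haveI : Fact (Nat.Prime 2) := ⟨Nat.prime_two⟩
  have hab : Walter.AbelianSylow G := fun T => by
    haveI := hS
    exact ⟨⟨fun a b => (Sylow.equiv T S).injective (by rw [map_mul, map_mul, mul_comm' _ _])⟩⟩
  rcases hK G inferInstance hG hab with h | h | h
  · obtain ⟨n, F, i, j, hn, hF, he⟩ := h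
    exact Or.inl ⟨n, F, i, j, by omega, hF, he⟩
  · obtain ⟨F, i, j, hF, h5, ⟨e⟩⟩ := h
    rcases h5.eq_or_lt with h5 | h5
    · obtain ⟨K, i', j', hK, he⟩ := CITSuzuki.Lists.psl_two_five_to_four h5.symm e
      exact Or.inl ⟨2, K, i', j', le_rfl, by rw [hK]; norm_num, he⟩
    · exact Or.inr (Or.inr (Or.inr (Or.inl ⟨F, i, j, hF, h5, ⟨e⟩⟩)))
  · exact Or.inr (Or.inr (Or.inr (Or.inr (isJ1_of_isJR hV h))))

end Cfsg.Agent.Inter3185
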