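import Mathlib

/-!
# A radical for an alternating form in dimension three (helper88)
-/

set_option autoImplicit false

namespace Cfsg.Agent.Inter3185

universe u

/-- With central squares modulo `C` of index eight and commutators in `{1, v}`, the centre exceeds `C`. -/
theorem exists_radical {P : Type u} [Group P] [Finite P] (C : Subgroup P)
    (hC : C ≤ Subgroup.center P) (hidx : C.index = 8) (v : P) (hv : v * v = 1)
    (hcomm : ∀ x y : P, x * y * x⁻¹ * y⁻¹ = 1 ∨ x * y * x⁻¹ * y⁻¹ = v) :
    ∃ z ∉ C, z ∈ Subgroup.center P := by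
  classical
  haveI hCn : C.Normal := ⟨fun c hc g => by
    rw [Subgroup.mem_center_iff.1 (hC hc) g, mul_inv_cancel_right]; exact hc⟩
  let c : P → P → P := fun x y => x * y * x⁻¹ * y⁻¹
  by_cases hall : ∀ x y, c x y = 1
  · have : C ≠ ⊤ := fun e => by rw [e, Subgroup.index_top] at hidx; omega
    obtain ⟨z, -, hz⟩ := SetLike.exists_of_lt (lt_top_iff_ne_top.2 this)
    exact ⟨z, hz, Subgroup.mem_center_iff.2 fun g =>
      mul_inv_eq_iff_eq_mul.1 (mul_inv_eq_one.1 (hall g z))⟩
  push Not at hall
  obtain ⟨x, y, hxy⟩ := hall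
  have hxy' : c x y = v := (hcomm x y).resolve_left hxy
  have hv1 : v ≠ 1 := fun e => hxy (hxy'.trans e)
  have hvc : ∀ g, g * v = v * g := fun g => by
    have h1 : g * v * g⁻¹ = c (g * x * g⁻¹) (g * y * g⁻¹) := by
      rw [← hxy']; simp only [c]; group
    rcases hcomm (g * x * g⁻¹) (g * y * g⁻¹) with e | e
    · exact absurd (conj_eq_one_iff.1 (h1.trans e)) hv1
    · exact mul_inv_eq_iff_eq_mul.1 (h1.trans e)
  have hcc : ∀ a b g, g * c a b = c a b * g := fun a b g => by
    rcases hcomm a b with e | e
    · simp only [c, e, mul_one, one_mul]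
    · simp only [c, e, hvc]
  have hmul : ∀ a g h, c a (g * h) = c a g * c a h := fun a g h => by
    have : c a (g * h) = c a g * (g * c a h * g⁻¹) := by simp only [c]; group
    rw [this, hcc a h g, mul_inv_cancel_right]
  have hcC : ∀ a, ∀ d ∈ C, c a d = 1 := fun a d hd => by
    simp only [c]
    rw [Subgroup.mem_center_iff.1 (hC hd) a]; group
  have hinv : c y x = v := by
    have e : c y x = (c x y)⁻¹ := by simp only [c]; group
    rw [e, hxy', inv_eq_of_mul_eq_one_right hv]
  have hxx : ∀ a, c a a = 1 := fun a => by simp only [c]; group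
  -- `f (i, j, l) = x^i y^j z^l`
  let pw : P → Bool → P := fun a i => if i then a else 1
  have hpw : ∀ a b i, c a (pw b i) = pw (c a b) i := fun a b i => by
    cases i <;> simp [pw, c]
  by_cases hker : ∀ z, c x z = 1 → c y z = 1 → z ∈ C
  · exfalso
    let f : Bool × Bool → P ⧸ C := fun p => QuotientGroup.mk (pw x p.1 * pw y p.2)
    have hsurj : Function.Surjective f := by
      intro q
      obtain ⟨g, rfl⟩ := QuotientGroup.mk_surjective q
      refine ⟨(decide (c y g = v), decide (c x g = v)), QuotientGroup.eq.2 (hker _ ?_ ?_)⟩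
      · have h1 : c x ((pw x (decide (c y g = v)) * pw y (decide (c x g = v)))) *
            c x ((pw x (decide (c y g = v)) * pw y (decide (c x g = v)))⁻¹ * g) = c x g := by
          rw [← hmul, mul_inv_cancel_left]
        rw [hmul x (pw x _) (pw y _), hpw, hpw, hxx, hxy'] at h1
        rcases hcomm x g with e | e
        · change c x g = 1 at e
          simpa [pw, e, Ne.symm hv1] using h1
        · change c x g = v at e
          simpa [pw, e] using h1
      · have h1 : c y ((pw x (decide (c y g = v)) * pw y (decide (c x g = v)))) *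
            c y ((pw x (decide (c y g = v)) * pw y (decide (c x g = v)))⁻¹ * g) = c y g := by
          rw [← hmul, mul_inv_cancel_left]
        rw [hmul y (pw x _) (pw y _), hpw, hpw, hxx, hinv] at h1
        rcases hcomm y g with e | e
        · change c y g = 1 at e
          simpa [pw, e, Ne.symm hv1] using h1
        · change c y g = v at e
          simpa [pw, e] using h1
    have := Nat.card_le_card_of_surjective f hsurj
    rw [← Subgroup.index_eq_card, hidx] at this
    simp at this
  push Not at hker
  obtain ⟨z, hxz, hyz, hzC⟩ := hker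
  refine ⟨z, hzC, ?_⟩
  let F : Bool × Bool × Bool → P := fun p => pw x p.1 * pw y p.2.1 * pw z p.2.2
  let f : Bool × Bool × Bool → P ⧸ C := fun p => QuotientGroup.mk (F p)
  have hinj : Function.Injective f := by
    rintro ⟨i, j, l⟩ ⟨i', j', l'⟩ e
    have hd : (F (i, j, l))⁻¹ * F (i', j', l') ∈ C := QuotientGroup.eq.1 e
    have key : ∀ a, c a (F (i, j, l)) = c a (F (i', j', l')) := fun a => by
      have := hmul a (F (i, j, l)) ((F (i, j, l))⁻¹ * F (i', j', l'))
      rw [mul_inv_cancel_left, hcC a _ hd, mul_one] at this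
      exact this.symm
    have k1 := key x
    have k2 := key y
    simp only [F, hmul, hpw, hxx, hxy', hinv, hxz, hyz] at k1 k2
    obtain rfl : j = j' := by
      cases j <;> cases j' <;> first | rfl | (simp [pw, hv1, Ne.symm hv1] at k1)
    obtain rfl : i = i' := by
      cases i <;> cases i' <;> first | rfl | (simp [pw, hv1, Ne.symm hv1] at k2)
    have hd' : (pw z l)⁻¹ * pw z l' ∈ C := by
      have e : (F (i, j, l))⁻¹ * F (i, j, l') = (pw z l)⁻¹ * pw z l' := by simp only [F]; group
      rwa [e] at hd
    cases l <;> cases l'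
    · rfl
    · exact absurd (by simpa [pw] using hd') hzC
    · exact absurd (inv_mem_iff.1 (by simpa [pw] using hd')) hzC
    · rfl
  have hbij : Function.Bijective f := by
    haveI := Fintype.ofFinite (P ⧸ C)
    refine (Fintype.bijective_iff_injective_and_card f).2 ⟨hinj, ?_⟩
    rw [← Nat.card_eq_fintype_card (α := P ⧸ C), ← Subgroup.index_eq_card, hidx]
    simp
  rw [Subgroup.mem_center_iff]
  intro g
  obtain ⟨p, hp⟩ := hbij.2 (QuotientGroup.mk g)
  have hd : (F p)⁻¹ * g ∈ C := QuotientGroup.eq.1 hp
  have hzF : ∀ q, Commute z (F q) := by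
    rintro ⟨i, j, l⟩
    have hzx : Commute z x := (mul_inv_eq_iff_eq_mul.1 (mul_inv_eq_one.1 hxz) : x * z = z * x).symm
    have hzy : Commute z y := (mul_inv_eq_iff_eq_mul.1 (mul_inv_eq_one.1 hyz) : y * z = z * y).symm
    have : ∀ a i, Commute z a → Commute z (pw a i) := fun a i h => by cases i <;> simp [pw, h]
    exact ((this x i hzx).mul_right (this y j hzy)).mul_right (this z l (Commute.refl z))
  have := (hzF p).mul_right (show Commute z ((F p)⁻¹ * g) from Subgroup.mem_center_iff.1 (hC hd) z)
  rw [mul_inv_cancel_left] at this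
  exact this.eq.symm

end Cfsg.Agent.Inter3185
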