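import Mathlib

/-!
# Shapes of a Sylow 2-subgroup at a non-2-closed centraliser (helper88)

`S` is a finite 2-group, `v` a central involution of it and `Γ` a group of automorphisms which fixes
no central involution and has odd orbits on them.  Three shapes of `(S, v)` are excluded:
an invariant hyperplane of the central involutions avoiding `v`, a product `P × R` with `R`
nonabelian and `v` its only involution, and the shape of `U₃(q)⟨σ⟩ × ⟨v⟩` with `σ` trivial on the
centre.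
-/

set_option autoImplicit false
set_option linter.style.haveILetI false
set_option linter.unusedSectionVars false

open scoped IsMulCommutative

namespace Cfsg.Agent.Inter3185

universe u

variable {S : Type u} [Group S]

/-- A central element of order at most two. -/
def IsV (x : S) : Prop := x ∈ Subgroup.center S ∧ x * x = 1

/-- `Γ` fixes no central involution and has odd orbits on them. -/
structure Moves (Γ : Subgroup (MulAut S)) : Prop where
  odd : ∀ x : S, IsV x → Odd (Nat.card (MulAction.orbit Γ x))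
  move : ∀ x : S, IsV x → x ≠ 1 → ∃ α ∈ Γ, α x ≠ x

/-- Every central involution is in `W` or in `vW`. -/
def Cover (v : S) (W : Subgroup S) : Prop := ∀ x, IsV x → x ∈ W ∨ x * v ∈ W

/-- An invariant hyperplane avoiding `v`. -/
def ShapeW (v : S) : Prop :=
  ∃ W : Subgroup S, (∀ α : MulAut S, ∀ x ∈ W, α x ∈ W) ∧ v ∉ W ∧ Cover v W

/-- A product of commuting subgroups, one nonabelian with the only involution `v`. -/
def ShapeR (v : S) : Prop :=
  ∃ P R : Subgroup S, v ∈ R ∧ v ∉ P ∧ (∀ p ∈ P, ∀ r ∈ R, p * r = r * p) ∧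
    (∀ s : S, ∃ p ∈ P, ∃ r ∈ R, p * r = s) ∧ (∀ r ∈ R, r * r = 1 → r = 1 ∨ r = v) ∧
    ∃ a ∈ R, ∃ b ∈ R, a * b ≠ b * a

/-- The unitary shape. -/
def ShapeU (v : S) : Prop :=
  ∃ P : Subgroup S, P.Normal ∧ v ∉ P ∧ Cover v P ∧
    (∀ s : S, s * s ∈ P → s ∈ P ∨ s * v ∈ P) ∧
    (∀ x ∈ P, x * x ∈ Subgroup.center S) ∧
    (∀ x ∈ P, x ∈ Subgroup.center S → x * x = 1) ∧
    (∀ x ∈ P, ∀ y ∈ P, x * y * x⁻¹ * y⁻¹ ∈ Subgroup.center S) ∧
    (∀ x ∈ P, x ∉ Subgroup.center S → ∀ z ∈ P, z ∈ Subgroup.center S →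
      ∃ y ∈ P, x * y * x⁻¹ * y⁻¹ = z) ∧
    16 * Nat.card ↥(P ⊓ Subgroup.center S) ≤ Nat.card P

theorem IsV.map (α : MulAut S) {x : S} (h : IsV x) : IsV (α x) := by
  refine ⟨Subgroup.mem_center_iff.2 fun g => ?_, by rw [← map_mul, h.2, map_one]⟩
  obtain ⟨g, rfl⟩ := α.surjective g
  rw [← map_mul, ← map_mul, Subgroup.mem_center_iff.1 h.1 g]

/-- A non-trivial element of a 2-group has an involution among its powers. -/
theorem exists_invol_pow (hS : IsPGroup 2 S) {x : S} (hx : x ≠ 1) :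
    ∃ n : ℕ, x ^ n * x ^ n = 1 ∧ x ^ n ≠ 1 := by
  haveI : Fact (Nat.Prime 2) := ⟨Nat.prime_two⟩
  obtain ⟨k, hk⟩ := hS x
  obtain ⟨i, -, hi⟩ := (Nat.dvd_prime_pow Nat.prime_two).1 (orderOf_dvd_of_pow_eq_one hk)
  rcases i with _ | i
  · exact absurd (orderOf_eq_one_iff.1 (by simpa using hi)) hx
  refine ⟨2 ^ i, by rw [← pow_add, ← two_mul, ← pow_succ', ← hi, pow_orderOf_eq_one], fun h => ?_⟩
  have h1 := Nat.le_of_dvd (pow_pos two_pos i) (orderOf_dvd_of_pow_eq_one h)
  rw [hi, pow_succ] at h1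
  have : 0 < 2 ^ i := pow_pos two_pos i
  omega

variable [Finite S]

theorem orbit_prod {Γ : Subgroup (MulAut S)} (hΓ : Moves Γ) {v : S} (hv : IsV v)
    [Fintype (MulAction.orbit Γ v)] (f : MulAction.orbit Γ v → Subgroup.center S)
    (hf : ∀ y, (f y : S) = y) : (∏ y, f y) = 1 := by
  classical
  have hOV : ∀ y : MulAction.orbit Γ v, IsV (y : S) := by
    rintro ⟨_, γ, rfl⟩
    exact hv.map (γ : MulAut S)
  set p := ∏ y, f y with hp
  have hpV : IsV (p : S) := by
    refine ⟨p.2, congrArg Subtype.val (show p * p = 1 from ?_)⟩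
    rw [hp, ← Finset.prod_mul_distrib]
    exact Finset.prod_eq_one fun y _ => Subtype.ext (by
      rw [Subgroup.coe_mul, hf, Subgroup.coe_one]; exact (hOV y).2)
  refine Subtype.ext (Classical.by_contradiction fun h => ?_)
  obtain ⟨α, hα, hmove⟩ := hΓ.move _ hpV h
  refine hmove ?_
  have he : ∀ q : Finset (MulAction.orbit Γ v), α ((∏ y ∈ q, f y : Subgroup.center S) : S) =
      ((∏ y ∈ q, f ((⟨α, hα⟩ : Γ) • y) : Subgroup.center S) : S) := by
    intro q
    induction q using Finset.induction_on with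
    | empty => simp
    | insert a q ha ih =>
      rw [Finset.prod_insert ha, Finset.prod_insert ha, Subgroup.coe_mul, map_mul, ih,
        Subgroup.coe_mul, hf, hf]
      rfl
  rw [hp, he]
  exact congrArg Subtype.val (Equiv.prod_comp (MulAction.toPerm ((⟨α, hα⟩ : Γ))) f)

/-- An orbit meets every hyperplane, and also its complement away from `v`. -/
theorem exists_map {Γ : Subgroup (MulAut S)} (hΓ : Moves Γ) {v : S} (hv : IsV v) {W : Subgroup S}
    (hvW : v ∉ W) (hW : Cover v W) :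
    (∃ α ∈ Γ, α v ∈ W) ∧ ∃ α ∈ Γ, α v ∉ W ∧ α v ≠ v := by
  classical
  set O := MulAction.orbit Γ v with hO
  haveI : Fintype O := Fintype.ofFinite _
  have hOV : ∀ y : O, IsV (y : S) := by
    rintro ⟨_, γ, rfl⟩
    exact hv.map (γ : MulAut S)
  let f : O → Subgroup.center S := fun y => ⟨y, (hOV y).1⟩
  have hp1 := orbit_prod hΓ hv f fun _ => rfl
  have hc : ∀ g : S, g * v = v * g := Subgroup.mem_center_iff.1 hv.1
  constructor
  · by_contra hne
    push Not at hne
    have hcnt : ∀ q : Finset O,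
        (Even q.card → ((∏ y ∈ q, f y : Subgroup.center S) : S) ∈ W) ∧
        (Odd q.card → ((∏ y ∈ q, f y : Subgroup.center S) : S) * v ∈ W) := by
      intro q
      induction q using Finset.induction_on with
      | empty => exact ⟨fun _ => by simp, fun h => absurd h (by simp)⟩
      | insert a q ha ih =>
        have hav : (a : S) * v ∈ W := (hW _ (hOV a)).resolve_left (by
          obtain ⟨_, γ, rfl⟩ := a
          exact hne _ γ.2)
        rw [Finset.card_insert_of_notMem ha, Finset.prod_insert ha, Subgroup.coe_mul]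
        refine ⟨fun he => ?_, fun ho => ?_⟩
        · have h1 := mul_mem hav (ih.2 (by rcases he with ⟨k, hk⟩; exact ⟨k - 1, by omega⟩))
          rw [← mul_assoc, mul_assoc (a : S) v, ← hc, ← mul_assoc, mul_assoc _ v v, hv.2, mul_one] at h1
          exact h1
        · have h1 := mul_mem hav (ih.1 (by rcases ho with ⟨k, hk⟩; exact ⟨k, by omega⟩))
          rw [mul_assoc, ← hc, ← mul_assoc] at h1
          exact h1
    have hpW := (hcnt Finset.univ).2 (by
      rw [Finset.card_univ, ← Nat.card_eq_fintype_card]; exact hΓ.odd v hv)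
    rw [hp1, Subgroup.coe_one, one_mul] at hpW
    exact hvW hpW
  · by_contra hne
    push Not at hne
    let v₀ : O := ⟨v, MulAction.mem_orbit_self v⟩
    rw [← Finset.mul_prod_erase Finset.univ f (Finset.mem_univ v₀)] at hp1
    have h1 : ∀ q : Finset O, v₀ ∉ q → ((∏ y ∈ q, f y : Subgroup.center S) : S) ∈ W := by
      intro q
      induction q using Finset.induction_on with
      | empty => intro _; simp
      | insert a q ha ih =>
        intro hq
        rw [Finset.mem_insert, not_or] at hq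
        rw [Finset.prod_insert ha, Subgroup.coe_mul]
        refine mul_mem ?_ (ih hq.2)
        obtain ⟨_, γ, rfl⟩ := a
        by_contra h
        exact hq.1 (Subtype.ext (hne _ γ.2 h).symm)
    have h2 := congrArg Subtype.val hp1
    rw [Subgroup.coe_mul, Subgroup.coe_one] at h2
    refine hvW ?_
    rw [show v = ((∏ y ∈ Finset.univ.erase v₀, f y : Subgroup.center S) : S)⁻¹ from
      eq_inv_of_mul_eq_one_left h2]
    exact inv_mem (h1 _ (Finset.notMem_erase _ _))

theorem false_of_shapeW {Γ : Subgroup (MulAut S)} (hΓ : Moves Γ) {v : S} (hv : IsV v)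
    (h : ShapeW v) : False := by
  obtain ⟨W, hinv, hvW, hW⟩ := h
  obtain ⟨α, -, hα⟩ := (exists_map hΓ hv hvW hW).1
  have := hinv α⁻¹ _ hα
  rw [MulAut.inv_apply, MulEquiv.symm_apply_apply] at this
  exact hvW this

theorem false_of_shapeR (hS : IsPGroup 2 S) {Γ : Subgroup (MulAut S)} (hΓ : Moves Γ) {v : S}
    (hv : IsV v) (h : ShapeR v) : False := by
  obtain ⟨P, R, hvR, hvP, hPR, hdec, hone, a, ha, b, hb, hab⟩ := h
  have hPn : P.Normal := ⟨fun p hp s => by
    obtain ⟨q, hq, r, hr, rfl⟩ := hdec s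
    rw [mul_assoc q r p, ← hPR p hp r hr, show q * (p * r) * (q * r)⁻¹ = q * p * q⁻¹ by group]
    exact mul_mem (mul_mem hq hp) (inv_mem hq)⟩
  have hRn : R.Normal := ⟨fun r hr s => by
    obtain ⟨q, hq, r', hr', rfl⟩ := hdec s
    have h1 : r' * r * r'⁻¹ ∈ R := mul_mem (mul_mem hr' hr) (inv_mem hr')
    rw [show q * r' * r * (q * r')⁻¹ = q * (r' * r * r'⁻¹) * q⁻¹ by group, hPR q hq _ h1,
      mul_inv_cancel_right]
    exact h1⟩
  have hdisj : ∀ r ∈ R, r ∈ P → r = 1 := fun r hr hrP => by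
    by_contra h
    obtain ⟨n, hn, hn1⟩ := exists_invol_pow hS h
    rcases hone _ (pow_mem hr n) hn with h' | h'
    · exact hn1 h'
    · exact hvP (h' ▸ pow_mem hrP n)
  have hcov : Cover v P := by
    intro x hx
    obtain ⟨p, hp, r, hr, rfl⟩ := hdec x
    have h2 : r * r = p⁻¹ * p⁻¹ := by
      rw [← mul_inv_rev]
      refine eq_inv_of_mul_eq_one_right ?_
      rw [← hx.2, mul_assoc p p, mul_assoc p r, ← mul_assoc r p r, ← hPR p hp r hr, mul_assoc p r r]
    have hr1 := hdisj (r * r) (mul_mem hr hr) (h2 ▸ mul_mem (inv_mem hp) (inv_mem hp))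
    rcases hone r hr hr1 with rfl | rfl
    · left; rwa [mul_one]
    · right; rw [mul_assoc, hv.2, mul_one]; exact hp
  obtain ⟨α, -, hαP, hαv⟩ := (exists_map hΓ hv hvP hcov).2
  set R' := R.map α.toMonoidHom with hR'
  haveI : R'.Normal := hRn.map _ α.surjective
  haveI := hRn
  haveI := hPn
  have hone' : ∀ x ∈ R', x * x = 1 → x = 1 ∨ x = α v := by
    rintro _ ⟨r, hr, rfl⟩ h
    rcases hone r hr (α.injective (by rw [map_mul, map_one]; exact h)) with rfl | rfl
    · left; exact map_one _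
    · right; rfl
  have hd : ∀ U : Subgroup S, α v ∉ U → Disjoint R' U := fun U hU => disjoint_iff.2
    ((Subgroup.eq_bot_iff_forall _).2 fun x hx => by
      by_contra h
      obtain ⟨n, hn, hn1⟩ := exists_invol_pow hS h
      rcases hone' _ (pow_mem hx.1 n) hn with h' | h'
      · exact hn1 h'
      · exact hU (h' ▸ pow_mem hx.2 n))
  have hαR : α v ∉ R := fun h => by
    rcases hone _ h (by rw [← map_mul, hv.2, map_one]) with h' | h'
    · exact hαP (h' ▸ one_mem _)
    · exact hαv h'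
  have hcent : ∀ x ∈ R', ∀ y : S, x * y = y * x := fun x hx y => by
    obtain ⟨p, hp, r, hr, rfl⟩ := hdec y
    have h1 := Subgroup.commute_of_normal_of_disjoint R' P inferInstance inferInstance (hd P hαP) x p hx hp
    have h2 := Subgroup.commute_of_normal_of_disjoint R' R inferInstance inferInstance (hd R hαR) x r hx hr
    exact (h1.mul_right h2).eq
  refine hab (α.injective ?_)
  rw [map_mul, map_mul]
  exact hcent _ ⟨a, ha, rfl⟩ _

theorem false_of_shapeU {Γ : Subgroup (MulAut S)} (hΓ : Moves Γ) {v : S}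
    (hv : IsV v) (h : ShapeU v) : False := by
  obtain ⟨P, hPn, hvP, hcov, hone, hsq, hel, hder, hfull, hcard⟩ := h
  obtain ⟨α, -, hα⟩ := (exists_map hΓ hv hvP hcov).1
  -- the translate containing `v`
  set Q := P.comap α.toMonoidHom with hQ
  set w := α⁻¹ v with hw
  haveI : Q.Normal := hPn.comap _
  have hvQ : v ∈ Q := hα
  have hwQ : w ∉ Q := fun h => hvP (by simpa [hQ, hw] using h)
  have hwV : IsV w := hv.map _
  have honeQ : ∀ s : S, s * s ∈ Q → s ∈ Q ∨ s * w ∈ Q := by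
    intro s hs
    have hs' : α s * α s ∈ P := by rw [← map_mul]; exact hs
    rcases hone (α s) hs' with h | h
    · exact Or.inl h
    · right
      show α (s * w) ∈ P
      rw [map_mul, hw, MulAut.inv_apply, MulEquiv.apply_symm_apply]
      exact h
  set Z := P ⊓ Subgroup.center S with hZ
  have hZV : ∀ z ∈ Z, IsV z := fun z hz => ⟨hz.2, hel z hz.1 hz.2⟩
  obtain ⟨z₀, hz₀, hz₀Q⟩ : ∃ z ∈ Z, z ∉ Q := by
    by_contra hne
    push Not at hne
    refine hwQ ?_
    rcases hcov w hwV with h | h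
    · exact hne w ⟨h, hwV.1⟩
    · have := mul_mem (hne _ ⟨h, mul_mem hwV.1 hv.1⟩) hvQ
      rwa [mul_assoc, hv.2, mul_one] at this
  have hZ2 : ∀ z ∈ Z, z ∉ Q → z * w ∈ Q := fun z hz hzQ =>
    (honeQ z (by rw [(hZV z hz).2]; exact one_mem _)).resolve_left hzQ
  have hinter : ∀ x ∈ P, x ∈ Q → x ∈ Subgroup.center S := by
    intro x hxP hxQ
    by_contra hxc
    obtain ⟨y, -, hy⟩ := hfull x hxP hxc z₀ hz₀.1 hz₀.2
    refine hz₀Q (hy ▸ ?_)
    rw [show x * y * x⁻¹ * y⁻¹ = x * (y * x⁻¹ * y⁻¹) by group]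
    exact mul_mem hxQ (Subgroup.Normal.conj_mem inferInstance _ (inv_mem hxQ) y)
  have hmod : ∀ a ∈ Z, ∀ b ∈ Z, a ∉ Q → b ∉ Q → a * b ∈ Q := fun a ha b hb hna hnb => by
    have h1 := mul_mem (hZ2 a ha hna) (hZ2 b hb hnb)
    rwa [mul_assoc, ← mul_assoc w, ← Subgroup.mem_center_iff.1 hwV.1 b, mul_assoc b, hwV.2, mul_one] at h1
  have hsqQ : ∀ x ∈ P, x ∉ Subgroup.center S → x * x ∉ Q := by
    intro x hx hxc hxx
    rcases honeQ x hxx with h | h
    · exact hxc (hinter x hx h)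
    · have h1 := mul_mem h (hZ2 z₀ hz₀ hz₀Q)
      rw [mul_assoc, ← mul_assoc w, ← Subgroup.mem_center_iff.1 hwV.1 z₀, mul_assoc z₀, hwV.2,
        mul_one] at h1
      have h2 := mul_mem (hinter _ (mul_mem hx hz₀.1) h1) (inv_mem hz₀.2)
      rw [mul_inv_cancel_right] at h2
      exact hxc h2
  have hcl : ∀ x ∈ P, x ∉ Subgroup.center S → ∀ y ∈ P, x * y * x⁻¹ * y⁻¹ ∈ Q →
      y ∈ Z ∨ x⁻¹ * y ∈ Z := by
    intro x hx hxc y hy hxy
    by_cases hyc : y ∈ Subgroup.center S
    · exact Or.inl ⟨hy, hyc⟩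
    refine Or.inr (Subgroup.mem_inf.2 ⟨mul_mem (inv_mem hx) hy, Classical.by_contradiction fun (hnc : x⁻¹ * y ∉ Subgroup.center S) => ?_⟩)
    refine hsqQ _ (mul_mem (inv_mem hx) hy) hnc ?_
    have hc1 : x⁻¹ * y * (x⁻¹ * y) = (x * x)⁻¹ * (x * y * x⁻¹ * y⁻¹) * (y * y) := by group
    have hcc := Subgroup.mem_center_iff.1 (hder x hx y hy)
    rw [hc1, mul_assoc, ← hcc, ← mul_assoc]
    refine mul_mem ?_ hxy
    have h1 : (x * x)⁻¹ ∈ Z := inv_mem (show x * x ∈ Z from ⟨mul_mem hx hx, hsq x hx⟩)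
    have h2 : y * y ∈ Z := ⟨mul_mem hy hy, hsq y hy⟩
    exact hmod _ h1 _ h2 (fun h => hsqQ x hx hxc (inv_mem_iff.1 h)) (hsqQ y hy hyc)
  obtain ⟨x, hx, hxc⟩ : ∃ x ∈ P, x ∉ Subgroup.center S := by
    by_contra hne
    push Not at hne
    rw [show Z = P from inf_eq_left.2 hne] at hcard
    have := Nat.card_pos (α := P)
    omega
  obtain ⟨y₀, hy₀, hy₀x⟩ := hfull x hx hxc z₀ hz₀.1 hz₀.2
  have hsub : (P : Set S) ⊆ (Z : Set S) ∪ (fun z => x * z) '' Z ∪
      ((fun z => y₀ * z) '' Z ∪ (fun z => y₀ * (x * z)) '' Z) := by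
    intro y hy
    by_cases hxy : x * y * x⁻¹ * y⁻¹ ∈ Q
    · rcases hcl x hx hxc y hy hxy with h | h
      · exact Or.inl (Or.inl h)
      · exact Or.inl (Or.inr ⟨_, h, by group⟩)
    · right
      have hc := Subgroup.mem_center_iff.1 (hder x hx (y₀⁻¹ * y) (mul_mem (inv_mem hy₀) hy))
      have e : x * y * x⁻¹ * y⁻¹ = z₀ * (x * (y₀⁻¹ * y) * x⁻¹ * (y₀⁻¹ * y)⁻¹) := by
        conv_rhs => rw [← hy₀x]
        set c := x * (y₀⁻¹ * y) * x⁻¹ * (y₀⁻¹ * y)⁻¹ with hcdef
        have h1 : x * y * x⁻¹ * y⁻¹ = x * y₀ * x⁻¹ * c * y₀⁻¹ := by rw [hcdef]; group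
        rw [h1, mul_assoc (x * y₀ * x⁻¹) c, ← hc, ← mul_assoc]
      have hmem : x * (y₀⁻¹ * y) * x⁻¹ * (y₀⁻¹ * y)⁻¹ ∈ Q := by
        by_contra hn
        refine hxy ?_
        rw [e]
        refine hmod _ hz₀ _ (Subgroup.mem_inf.2 ⟨?_, hder x hx _ (mul_mem (inv_mem hy₀) hy)⟩) hz₀Q hn
        exact mul_mem (mul_mem (mul_mem hx (mul_mem (inv_mem hy₀) hy)) (inv_mem hx))
          (inv_mem (mul_mem (inv_mem hy₀) hy))
      rcases hcl x hx hxc _ (mul_mem (inv_mem hy₀) hy) hmem with h | h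
      · exact Or.inl ⟨_, h, by group⟩
      · exact Or.inr ⟨_, h, by group⟩
  have hle := Set.ncard_le_ncard hsub (Set.toFinite _)
  have h1 := Set.ncard_union_le ((Z : Set S) ∪ (fun z => x * z) '' Z)
    ((fun z => y₀ * z) '' Z ∪ (fun z => y₀ * (x * z)) '' Z)
  have h2 := Set.ncard_union_le (Z : Set S) ((fun z => x * z) '' Z)
  have h3 := Set.ncard_union_le ((fun z => y₀ * z) '' Z) ((fun z => y₀ * (x * z)) '' Z)
  have h4 := Set.ncard_image_le (f := fun z => x * z) (Set.toFinite (Z : Set S))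
  have h5 := Set.ncard_image_le (f := fun z => y₀ * z) (Set.toFinite (Z : Set S))
  have h6 := Set.ncard_image_le (f := fun z => y₀ * (x * z)) (Set.toFinite (Z : Set S))
  have e1 : (Z : Set S).ncard = Nat.card Z := (Nat.card_coe_set_eq _).symm
  have e2 : (P : Set S).ncard = Nat.card P := (Nat.card_coe_set_eq _).symm
  have := Nat.card_pos (α := Z)
  omega

end Cfsg.Agent.Inter3185
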