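import Cfsg.Agent.Lib.Inter3185.Statement
import Cfsg.Agent.Lib.Inter3185.Shape
import Cfsg.Agent.Lib.ZStar.StronglyClosed
import Cfsg.Agent.Lib.Inv59.Basic
import Cfsg.Agent.Lib.Crit59.Setting

/-!
# First consequences of `VHyp` in a simple group (helper88)
-/

set_option autoImplicit false
set_option linter.style.haveILetI false
set_option linter.unusedSectionVars false

namespace Cfsg.Agent.Inter3185

open Cfsg.Agent.Lib.Inv59.Basic

universe u

variable {G : Type u} [Group G] [Finite G]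

/-- The normaliser of a Sylow 2-subgroup. -/
abbrev Nrm (S : Sylow 2 G) : Subgroup G := Subgroup.normalizer ((S : Subgroup G) : Set G)

/-- An element of `S` of order at most two centralised by `S`. -/
structure Cen (S : Sylow 2 G) (z : G) : Prop where
  mem : z ∈ (S : Subgroup G)
  comm : ∀ s ∈ (S : Subgroup G), s * z = z * s
  sq : z * z = 1

theorem Cen.mul {S : Sylow 2 G} {a b : G} (ha : Cen S a) (hb : Cen S b) : Cen S (a * b) :=
  ⟨mul_mem ha.mem hb.mem, fun s hs => ((show Commute s a from ha.comm s hs).mul_right (hb.comm s hs)).eq,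
    by rw [mul_assoc, ← mul_assoc b, ha.comm b hb.mem, mul_assoc a b b, hb.sq, mul_one,
      ha.sq]⟩

theorem Cen.map {S : Sylow 2 G} {a n : G} (ha : Cen S a) (hn : n ∈ Nrm S) : Cen S (n * a * n⁻¹) := by
  refine ⟨(Subgroup.mem_normalizer_iff.1 hn a).1 ha.mem, fun s hs => ?_, ?_⟩
  · have h1 : n⁻¹ * s * n ∈ (S : Subgroup G) := (Subgroup.mem_normalizer_iff''.1 hn s).1 hs
    calc s * (n * a * n⁻¹) = n * (n⁻¹ * s * n * a) * n⁻¹ := by group
      _ = n * (a * (n⁻¹ * s * n)) * n⁻¹ := by rw [ha.comm _ h1]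
      _ = n * a * n⁻¹ * s := by group
  · rw [show n * a * n⁻¹ * (n * a * n⁻¹) = n * (a * a) * n⁻¹ by group, ha.sq, mul_one, mul_inv_cancel]

theorem Cen.twoCentral {S : Sylow 2 G} {a : G} (ha : Cen S a) (h1 : a ≠ 1) :
    Cfsg.IsTwoCentralInvolution a :=
  ⟨orderOf_eq_prime (by rw [pow_two, ha.sq]) h1, S, ha.mem, fun x hx => ha.comm x hx⟩

theorem mem_smul_iff {S : Sylow 2 G} {g x : G} :
    x ∈ ((g • S : Sylow 2 G) : Subgroup G) ↔ g⁻¹ * x * g ∈ (S : Subgroup G) := by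
  rw [Sylow.coe_subgroup_smul, Subgroup.mem_pointwise_smul_iff_inv_smul_mem]
  simp [MulAut.smul_def]

/-- A four-group with a 2-central involution lies in one Sylow 2-subgroup only. -/
theorem VHyp.uniq (hV : VHyp G) {S T : Sylow 2 G} {x z : G} (hzc : Cfsg.IsTwoCentralInvolution z)
    (hxS : x ∈ (S : Subgroup G)) (hzS : z ∈ (S : Subgroup G)) (hxT : x ∈ (T : Subgroup G))
    (hzT : z ∈ (T : Subgroup G)) (hx2 : x * x = 1) (hcomm : x * z = z * x) (hx1 : x ≠ 1)
    (hxz : x ≠ z) : S = T := by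
  classical
  have hz1 : z ≠ 1 := fun e => by
    have := hzc.1
    rw [e, orderOf_one] at this
    omega
  have hz2 : z * z = 1 := by rw [← sq, ← hzc.1, pow_orderOf_eq_one]
  have r1 : ∀ a : G, x * (x * a) = a := fun a => by rw [← mul_assoc, hx2, one_mul]
  have r2 : ∀ a : G, z * (z * a) = a := fun a => by rw [← mul_assoc, hz2, one_mul]
  have r3 : ∀ a : G, z * (x * a) = x * (z * a) := fun a => by rw [← mul_assoc, ← hcomm, mul_assoc]
  let E : Subgroup G :=
    { carrier := {1, x, z, x * z}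
      one_mem' := by simp
      mul_mem' := fun {a b} ha hb => by
        simp only [Set.mem_insert_iff, Set.mem_singleton_iff] at ha hb ⊢
        rcases ha with rfl | rfl | rfl | rfl <;> rcases hb with rfl | rfl | rfl | rfl <;>
          simp [mul_assoc, hx2, hz2, r1, r2, r3, ← hcomm]
      inv_mem' := fun {a} ha => by
        simp only [Set.mem_insert_iff, Set.mem_singleton_iff] at ha ⊢
        rcases ha with rfl | rfl | rfl | rfl
        · simp
        · exact Or.inr (Or.inl (inv_eq_of_mul_eq_one_right hx2))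
        · exact Or.inr (Or.inr (Or.inl (inv_eq_of_mul_eq_one_right hz2)))
        · exact Or.inr (Or.inr (Or.inr (inv_eq_of_mul_eq_one_right (by simp [mul_assoc, r3, r1, hz2, hx2])))) }
  have hmem : ∀ a, a ∈ E ↔ a = 1 ∨ a = x ∨ a = z ∨ a = x * z := fun a => Iff.rfl
  refine hV S T E ?_ ?_ ⟨⟨⟨fun a b => Subtype.ext ?_⟩⟩, fun a ha => ?_⟩ ?_ z ((hmem z).2 (by simp)) hzc
  · intro a ha
    rcases (hmem a).1 ha with rfl | rfl | rfl | rfl
    exacts [one_mem _, hxS, hzS, mul_mem hxS hzS]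
  · intro a ha
    rcases (hmem a).1 ha with rfl | rfl | rfl | rfl
    exacts [one_mem _, hxT, hzT, mul_mem hxT hzT]
  · obtain ⟨a, ha⟩ := a
    obtain ⟨b, hb⟩ := b
    show a * b = b * a
    rcases (hmem a).1 ha with rfl | rfl | rfl | rfl <;>
      rcases (hmem b).1 hb with rfl | rfl | rfl | rfl <;>
      simp [mul_assoc, hx2, hz2, r1, r2, r3, ← hcomm]
  · rw [pow_two]
    rcases (hmem a).1 ha with rfl | rfl | rfl | rfl
    exacts [mul_one 1, hx2, hz2, by simp [mul_assoc, r3, r1, hz2, hx2]]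
  · have hxz1 : x * z ≠ 1 := fun e => hxz (by
      rw [eq_inv_of_mul_eq_one_left e, inv_eq_of_mul_eq_one_right hz2])
    show Nat.card ({1, x, z, x * z} : Set G) = 4
    rw [Nat.card_coe_set_eq]
    have hxz2 : x ≠ x * z := fun e => hz1 (mul_left_cancel (a := x) (by rw [← e, mul_one]))
    have hxz3 : z ≠ x * z := fun e => hx1 (mul_right_cancel (b := z) (by rw [← e, one_mul]))
    rw [Set.ncard_insert_of_notMem (by simp [Ne.symm hx1, Ne.symm hz1, Ne.symm hxz1]),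
      Set.ncard_insert_of_notMem (by simp [hxz, hxz2]), Set.ncard_pair hxz3]

theorem na_of (hG : ¬ IsMulCommutative G) : ∃ a b : G, a * b ≠ b * a := by
  by_contra h
  push Not at h
  exact hG ⟨⟨h⟩⟩

variable [IsSimpleGroup G]

/-- No involution of a simple group is isolated in a Sylow 2-subgroup. -/
theorem not_isolated (hG : ¬ IsMulCommutative G) {S : Sylow 2 G} {z : G} (hz : z ∈ (S : Subgroup G))
    (hz2 : z * z = 1) (hz1 : z ≠ 1) :
    ∃ g, g * z * g⁻¹ ∈ (S : Subgroup G) ∧ g * z * g⁻¹ ≠ z := by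
  by_contra hne
  push Not at hne
  obtain ⟨N, hN, hNodd, hcomm⟩ := Cfsg.Agent.Lib.ZStar.StronglyClosed.involutionThm G S z
    (orderOf_eq_prime (by rw [sq, hz2]) hz1) hz hne
  have hNb : N = ⊥ := (Subgroup.Normal.eq_bot_or_eq_top hN).resolve_right fun e => by
    rw [e, Subgroup.card_top] at hNodd
    have h2 : 2 ∣ Nat.card G := (orderOf_eq_prime (p := 2) (by rw [sq, hz2]) hz1) ▸ orderOf_dvd_natCard z
    exact Nat.not_even_iff_odd.2 hNodd (even_iff_two_dvd.2 h2)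
  have hc : z ∈ Subgroup.center G := Subgroup.mem_center_iff.2 fun g => by
    have := hcomm g
    rw [hNb, Subgroup.mem_bot, mul_inv_eq_one, mul_inv_eq_iff_eq_mul] at this
    exact this.symm
  obtain ⟨a, b, hab⟩ := na_of hG
  rcases Subgroup.Normal.eq_bot_or_eq_top (inferInstance : (Subgroup.center G).Normal) with e | e
  · exact hz1 (Subgroup.mem_bot.1 (e ▸ hc))
  · exact hab (Subgroup.mem_center_iff.1 (e ▸ Subgroup.mem_top b) a)

/-- The standing hypothesis. -/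
structure Base (S : Sylow 2 G) : Prop where
  na : ¬ IsMulCommutative G
  vhyp : VHyp G
  nab : ∃ a b : ↥(S : Subgroup G), a * b ≠ b * a

namespace Base

variable {S : Sylow 2 G} (h : Base S)
include h

theorem exists_cen : ∃ z, Cen S z ∧ z ≠ 1 := by
  haveI : Fact (Nat.Prime 2) := ⟨Nat.prime_two⟩
  haveI : Nontrivial ↥(S : Subgroup G) := by
    obtain ⟨a, b, hab⟩ := h.nab
    exact ⟨⟨a * b, b * a, hab⟩⟩
  haveI := S.isPGroup'.center_nontrivial
  obtain ⟨z, hz1⟩ := exists_ne (1 : Subgroup.center ↥(S : Subgroup G))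
  obtain ⟨n, hn, hn1⟩ := exists_invol_pow S.isPGroup' (fun e => hz1 (Subtype.ext e))
  exact ⟨((z : ↥(S : Subgroup G)) ^ n : ↥(S : Subgroup G)), ⟨SetLike.coe_mem _, fun s hs =>
    congrArg Subtype.val (Subgroup.mem_center_iff.1 (pow_mem z.2 n) ⟨s, hs⟩),
    congrArg Subtype.val hn⟩, fun e => hn1 (Subtype.ext e)⟩

theorem exists_other {z : G} (hz : Cen S z) (hz1 : z ≠ 1) : ∃ u, Cen S u ∧ u ≠ 1 ∧ u ≠ z := by
  haveI : Fact (Nat.Prime 2) := ⟨Nat.prime_two⟩
  by_contra hne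
  push Not at hne
  obtain ⟨g, hg, hgz⟩ := not_isolated h.na hz.mem hz.sq hz1
  set x := g * z * g⁻¹ with hx
  have hx2 : x * x = 1 := by
    rw [hx, show g * z * g⁻¹ * (g * z * g⁻¹) = g * (z * z) * g⁻¹ by group, hz.sq, mul_one, mul_inv_cancel]
  have hx1 : x ≠ 1 := fun e => hz1 (conj_eq_one_iff.1 e)
  -- a Sylow subgroup of `C(x)` containing `z`
  set T := g • S with hT
  have hTC : (T : Subgroup G) ≤ Subgroup.centralizer ({x} : Set G) := fun y hy => by
    have h1 := mem_smul_iff.1 hy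
    rw [Subgroup.mem_centralizer_singleton_iff, hx]
    calc y * (g * z * g⁻¹) = g * ((g⁻¹ * y * g) * z) * g⁻¹ := by group
      _ = g * (z * (g⁻¹ * y * g)) * g⁻¹ := by rw [hz.comm _ h1]
      _ = g * z * g⁻¹ * y := by group
  obtain ⟨c, hc, hcz⟩ := exists_conj_mem_sylow T (Subgroup.centralizer ({x} : Set G))
    (Subgroup.zpowers z) hTC (S.isPGroup'.to_le (Subgroup.zpowers_le.2 hz.mem))
    (Subgroup.zpowers_le.2 (Subgroup.mem_centralizer_singleton_iff.2 (hz.comm x hg).symm))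
  have hcx : c * x * c⁻¹ = x := by
    rw [Subgroup.mem_centralizer_singleton_iff.1 hc, mul_inv_cancel_right]
  have hzT : z ∈ ((c⁻¹ • T : Sylow 2 G) : Subgroup G) := mem_smul_iff.2 (by
    rw [inv_inv]; exact hcz z (Subgroup.mem_zpowers z))
  have hTx : x ∈ ((c⁻¹ • T : Sylow 2 G) : Subgroup G) := mem_smul_iff.2 (by
    rw [inv_inv, hcx, hT]; exact mem_smul_iff.2 (by
      rw [hx, show g⁻¹ * (g * z * g⁻¹) * g = z by group]; exact hz.mem))
  have hS := h.vhyp.uniq (hz.twoCentral hz1) hg hz.mem hTx hzT hx2 (hz.comm x hg) hx1 hgz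
  have hxc : Cen S x := by
    refine ⟨hg, fun s hs => ?_, hx2⟩
    rw [hS] at hs
    have h1 : c * s * c⁻¹ ∈ (T : Subgroup G) := by
      have := mem_smul_iff.1 hs; rwa [inv_inv] at this
    have h2 := Subgroup.mem_centralizer_singleton_iff.1 (hTC h1)
    calc s * x = c⁻¹ * (c * s * c⁻¹ * (c * x * c⁻¹)) * c := by group
      _ = c⁻¹ * (c * s * c⁻¹ * x) * c := by rw [hcx]
      _ = c⁻¹ * (x * (c * s * c⁻¹)) * c := by rw [h2]
      _ = c⁻¹ * (c * x * c⁻¹ * (c * s * c⁻¹)) * c := by rw [hcx]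
      _ = x * s := by group
  exact hgz (hne x hxc hx1)

theorem mem_Nrm_of_four {x z g : G} (hz : Cen S z) (hz1 : z ≠ 1) (hx : x ∈ (S : Subgroup G))
    (hx2 : x * x = 1) (hx1 : x ≠ 1) (hxz : x ≠ z) (hgx : g * x * g⁻¹ ∈ (S : Subgroup G))
    (hgz : g * z * g⁻¹ ∈ (S : Subgroup G)) : g ∈ Nrm S := by
  have hS : S = g⁻¹ • S := h.vhyp.uniq (hz.twoCentral hz1) hx hz.mem
    (mem_smul_iff.2 (by rw [inv_inv]; exact hgx)) (mem_smul_iff.2 (by rw [inv_inv]; exact hgz))
    hx2 (hz.comm x hx) hx1 hxz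
  exact inv_mem_iff.1 (Sylow.smul_eq_iff_mem_normalizer.1 hS.symm)

/-- The centraliser of such a pair lies in `N(S)`. -/
theorem centralizer_pair {x z g : G} (hz : Cen S z) (hz1 : z ≠ 1) (hx : x ∈ (S : Subgroup G))
    (hx2 : x * x = 1) (hx1 : x ≠ 1) (hxz : x ≠ z) (hgx : g * x = x * g) (hgz : g * z = z * g) :
    g ∈ Nrm S :=
  h.mem_Nrm_of_four hz hz1 hx hx2 hx1 hxz (by rw [hgx, mul_inv_cancel_right]; exact hx)
    (by rw [hgz, mul_inv_cancel_right]; exact hz.mem)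

/-- `N(S)` controls the fusion of elements of `S` commuting with `S`. -/
theorem fusion {x g : G} (hx : Cen S x) (hx1 : x ≠ 1) (hgx : g * x * g⁻¹ ∈ (S : Subgroup G)) :
    ∃ n ∈ Nrm S, n * x * n⁻¹ = g * x * g⁻¹ := by
  haveI : Fact (Nat.Prime 2) := ⟨Nat.prime_two⟩
  obtain ⟨u, hu, hu1, hux⟩ := h.exists_other hx hx1
  set T := g • S
  set y := g * x * g⁻¹ with hy
  have hTC : (T : Subgroup G) ≤ Subgroup.centralizer ({y} : Set G) := fun a ha => by
    have h1 := mem_smul_iff.1 ha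
    rw [Subgroup.mem_centralizer_singleton_iff, hy]
    calc a * (g * x * g⁻¹) = g * ((g⁻¹ * a * g) * x) * g⁻¹ := by group
      _ = g * (x * (g⁻¹ * a * g)) * g⁻¹ := by rw [hx.comm _ h1]
      _ = g * x * g⁻¹ * a := by group
  -- the involutions of `V` commute with `y`, so `<y, u>` goes into `T` by an element of `C(y)`
  obtain ⟨c, hc, hcT⟩ := exists_conj_mem_sylow T (Subgroup.centralizer ({y} : Set G))
    ((S : Subgroup G) ⊓ Subgroup.centralizer ({y} : Set G)) hTC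
    (S.isPGroup'.to_le inf_le_left) inf_le_right
  have hcy : c * y * c⁻¹ = y := by
    rw [Subgroup.mem_centralizer_singleton_iff.1 hc, mul_inv_cancel_right]
  have hin : ∀ a, Cen S a → c * a * c⁻¹ ∈ (T : Subgroup G) := fun a ha =>
    hcT a ⟨ha.mem, Subgroup.mem_centralizer_singleton_iff.2 (ha.comm y hgx).symm⟩
  have hn : g⁻¹ * c ∈ Nrm S := by
    refine h.mem_Nrm_of_four hx hx1 hu.mem hu.sq hu1 hux ?_ ?_
    · have h1 := mem_smul_iff.1 (hin u hu)
      rwa [show g⁻¹ * (c * u * c⁻¹) * g = g⁻¹ * c * u * (g⁻¹ * c)⁻¹ by group] at h1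
    · have h1 := mem_smul_iff.1 (hin x hx)
      rwa [show g⁻¹ * (c * x * c⁻¹) * g = g⁻¹ * c * x * (g⁻¹ * c)⁻¹ by group] at h1
  refine ⟨(g⁻¹ * c)⁻¹, inv_mem hn, ?_⟩
  calc (g⁻¹ * c)⁻¹ * x * (g⁻¹ * c)⁻¹⁻¹ = c⁻¹ * y * c := by rw [hy]; group
    _ = c⁻¹ * (c * y * c⁻¹) * c := by rw [hcy]
    _ = y := by group

theorem exists_moving {z : G} (hz : Cen S z) (hz1 : z ≠ 1) : ∃ n ∈ Nrm S, n * z * n⁻¹ ≠ z := by
  obtain ⟨g, hg, hgz⟩ := not_isolated h.na hz.mem hz.sq hz1
  obtain ⟨n, hn, hnz⟩ := h.fusion hz hz1 hg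
  exact ⟨n, hn, hnz ▸ hgz⟩

/-- The automorphisms of `S` induced by `N(S)`. -/
theorem moves : Moves ((S : Subgroup G).normalizerMonoidHom.range) := by
  refine ⟨fun x hx => ?_, fun x hx hx1 => ?_⟩
  · have hxc : Cen S (x : G) := ⟨x.2, fun s hs => congrArg Subtype.val
      (Subgroup.mem_center_iff.1 hx.1 ⟨s, hs⟩), congrArg Subtype.val hx.2⟩
    have hodd := Cfsg.Agent.Lib.Crit59.odd_orbit S (H := Nrm S) (z := (x : G)) Subgroup.le_normalizer
      (fun s hs => Subgroup.mem_centralizer_singleton_iff.2 (hxc.comm s hs))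
    refine (Nat.card_congr ?_) ▸ hodd
    refine Equiv.symm (Equiv.ofBijective (fun y => ⟨((y : ↥(S : Subgroup G)) : G), ?_⟩) ⟨?_, ?_⟩)
    · obtain ⟨_, ⟨_, n, rfl⟩, rfl⟩ := y
      exact ⟨n, n.2, rfl⟩
    · intro a b e
      exact Subtype.ext (Subtype.ext (congrArg Subtype.val e :))
    · rintro ⟨y, n, hn, rfl⟩
      exact ⟨⟨_, ⟨(S : Subgroup G).normalizerMonoidHom ⟨n, hn⟩, ⟨⟨n, hn⟩, rfl⟩⟩, rfl⟩, rfl⟩
  · have hxc : Cen S (x : G) := ⟨x.2, fun s hs => congrArg Subtype.val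
      (Subgroup.mem_center_iff.1 hx.1 ⟨s, hs⟩), congrArg Subtype.val hx.2⟩
    obtain ⟨n, hn, hne⟩ := h.exists_moving hxc fun e => hx1 (Subtype.ext e)
    exact ⟨_, ⟨⟨n, hn⟩, rfl⟩, fun e => hne (congrArg Subtype.val e)⟩

end Base

end Cfsg.Agent.Inter3185
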