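import Cfsg.Agent.Lib.Inter3185.Frame
import Cfsg.Agent.Lib.Inter3185.Alt
import Cfsg.Agent.Lib.CentralInt88.SmallDerived
import Cfsg.Agent.Lib.CentralInt88.Structure
import Cfsg.Agent.Lib.Multiplier.Sylow
import Cfsg.Agent.S2089
import Cfsg.Agent.S2111

/-!
# The Bender group is simple: `v ∉ K` (helper88)
-/

set_option autoImplicit false
set_option linter.style.haveILetI false
set_option linter.unusedSectionVars false
set_option maxHeartbeats 1000000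

namespace Cfsg.Agent.Inter3185

open Cfsg.Agent.Lib.Inv59.Basic
open Cfsg.Agent.Lib.BenderSuzuki Cfsg.Agent.Lib.BenderConsumers23

universe u

variable {Q : Type u} [Group Q] [Finite Q]

namespace Loc

variable {S : Sylow 2 Q} {v w t : Q} (h : Loc S v) (hw : Pick S v w) (hF : Frame S w t)

local notation "π" => QuotientGroup.mk' (Zk (Kc w))
local notation "ZK" => Zk (Kc w)

include h hw

omit h hw in
theorem zk_comm {z : Q} (hz : z ∈ ZK) {k : Q} (hk : k ∈ Kc w) : k * z = z * k :=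
  Subgroup.mem_centralizer_iff.1 hz.2 k hk

theorem w_invImg : InvImg S w w :=
  ⟨⟨hw.mem, mem_K hw⟩, by rw [hw.sq]; exact one_mem _, fun e => by
    have := h.conj_not_zk hw 1
    rw [one_mul, inv_one, mul_one] at this
    exact this ((QuotientGroup.eq_one_iff _).2 e)⟩

/-- A 2-element of the torus conjugates no involution to its multiple by `v`. -/
theorem conj_ne_v {g x : Q} (hg : g ∈ NS S) (hgK : g ∈ Kc w)
    (hx : ∀ s ∈ (S : Subgroup Q) ⊓ Kc w, s * x = x * s) : g * x * g⁻¹ ≠ x * v := by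
  intro e
  obtain ⟨k, m, hm, hkm⟩ := Nat.exists_eq_pow_mul_and_not_dvd (orderOf_pos g).ne' 2 (by norm_num)
  have key : ∀ n : ℕ, g ^ n * x * (g ^ n)⁻¹ = x * v ^ n := by
    intro n
    induction n with
    | zero => simp
    | succ n ih =>
      calc g ^ (n + 1) * x * (g ^ (n + 1))⁻¹ = g * (g ^ n * x * (g ^ n)⁻¹) * g⁻¹ := by
            rw [pow_succ']; group
        _ = g * x * (v ^ n * g⁻¹) := by rw [ih]; group
        _ = g * x * (g⁻¹ * v ^ n) := by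
            rw [Subgroup.mem_center_iff.1 (pow_mem h.central n) g⁻¹]
        _ = x * v ^ (n + 1) := by rw [← mul_assoc, e, pow_succ', mul_assoc]
  have hm2 : g ^ m ∈ (S : Subgroup Q) ⊓ Kc w := Subgroup.mem_inf.2 ⟨by
    refine mem_sylow_of_normalizer S k ?_ (pow_mem hg m)
    rw [← pow_mul, mul_comm, ← hkm, pow_orderOf_eq_one], pow_mem hgK m⟩
  have h1 := key m
  rw [hx _ hm2, mul_inv_cancel_right] at h1
  obtain ⟨i, hi⟩ : Odd m := Nat.odd_iff.2 (by omega)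
  rw [hi, pow_succ, pow_mul, sq, h.v_sq, one_pow, one_mul] at h1
  exact h.v_ne (mul_left_cancel (a := x) (by rw [mul_one]; exact h1.symm))

include hF

/-- A preimage of an involution is central in `S ∩ K`. -/
theorem invImg_central {x : Q} (hx : InvImg S w x) : ∀ s ∈ (S : Subgroup Q) ⊓ Kc w, s * x = x * s := by
  obtain ⟨k, hk, hkz⟩ := hF.trans w x (h.w_invImg hw) hx
  intro s hs
  have hg := h.conj_good hw (mem_tor.1 hk).2.1
  have h1 : Commute s (k * w * k⁻¹) := hg.cent s hs.1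
  have h2 := h1.mul_right (show Commute s ((k * w * k⁻¹)⁻¹ * x) from zk_comm hkz hs.2)
  rwa [mul_inv_cancel_left] at h2

/-- An element of order two modulo `Zk` is central in `S ∩ K`. -/
theorem sq_zk_central {x : Q} (hx : x ∈ (S : Subgroup Q) ⊓ Kc w) (h2 : x * x ∈ ZK) :
    ∀ s ∈ (S : Subgroup Q) ⊓ Kc w, s * x = x * s := by
  by_cases hz : x ∈ ZK
  · exact fun s hs => zk_comm hz hs.2
  · exact h.invImg_central hw hF ⟨hx, h2, hz⟩

/-- An element of the torus moving `w`. -/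
theorem exists_moving : ∃ k ∈ Tor S w t, k * w * k⁻¹ * w⁻¹ ∉ ZK := by
  obtain ⟨n, hn, hne⟩ := h.exists_conj hw
  have hg := h.conj_good hw hn
  have hKn : n * w * n⁻¹ ∈ Kc w := Subgroup.normalClosure_normal.conj_mem _ (mem_K hw) n
  have hy : InvImg S w (n * w * n⁻¹) := ⟨⟨hg.mem, hKn⟩, by rw [hg.sq]; exact one_mem _,
    fun e => h.conj_not_zk hw n ((QuotientGroup.eq_one_iff _).2 e)⟩
  obtain ⟨k, hk, hkz⟩ := hF.trans w _ (h.w_invImg hw) hy
  refine ⟨k, hk, fun e => ?_⟩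
  have e' : w⁻¹ * (k * w * k⁻¹) ∈ ZK := by
    have := (inferInstance : (ZK).Normal).conj_mem _ e w⁻¹
    rwa [show w⁻¹ * (k * w * k⁻¹ * w⁻¹) * w⁻¹⁻¹ = w⁻¹ * (k * w * k⁻¹) by group] at this
  have hm := mul_mem e' hkz
  rw [show w⁻¹ * (k * w * k⁻¹) * ((k * w * k⁻¹)⁻¹ * (n * w * n⁻¹)) = w⁻¹ * (n * w * n⁻¹) by group,
    inv_eq_of_mul_eq_one_right hw.sq] at hm
  rcases h.zk_invol hw hm (by
    rw [mul_assoc, ← mul_assoc (n * w * n⁻¹), ← hg.cent w hw.mem, mul_assoc w (n * w * n⁻¹),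
      hg.sq, mul_one, hw.sq]) with h' | h'
  · exact hne (mul_left_cancel (h'.trans hw.sq.symm))
  · refine h.conj_ne_mul hw hn (mul_left_cancel (a := w) ?_)
    rw [h', ← mul_assoc, hw.sq, one_mul]

/-- `K` is perfect. -/
theorem perfect : ⁅Kc w, Kc w⁆ = Kc w := by
  obtain ⟨k, hk, hkw⟩ := h.exists_moving hw hF
  have hkn := (mem_tor.1 hk).2.1
  have hg := h.conj_good hw hkn
  set c := k * w * k⁻¹ * w⁻¹ with hc
  have hwi : w⁻¹ = w := inv_eq_of_mul_eq_one_right hw.sq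
  have hgood : Good1 S v c := by
    refine ⟨mul_mem hg.mem (inv_mem hw.mem), fun s hs => ?_, ?_, fun e => ?_, fun e => ?_⟩
    · rw [hc, hwi]
      exact ((show Commute s (k * w * k⁻¹) from hg.cent s hs).mul_right (hw.cent s hs)).eq
    · rw [hc, hwi, mul_assoc, ← mul_assoc w, hg.cent w hw.mem, mul_assoc (k * w * k⁻¹) w, hw.sq,
        mul_one, hg.sq]
    · exact hkw (e ▸ one_mem _)
    · refine hkw (Subgroup.mem_inf.2 ⟨?_, ?_⟩)
      · exact mul_mem (mul_mem (mul_mem (mem_tor.1 hk).1 (mem_K hw)) (inv_mem (mem_tor.1 hk).1))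
          (inv_mem (mem_K hw))
      · rw [e]
        exact Subgroup.mem_centralizer_iff.2 fun g _ => h.v_comm g
  have hcK : c ∈ ⁅Kc w, Kc w⁆ := Subgroup.commutator_mem_commutator (mem_tor.1 hk).1 (mem_K hw)
  haveI : (⁅Kc w, Kc w⁆).Normal := Subgroup.commutator_normal _ _
  refine Subgroup.eq_of_le_of_card_ge (Subgroup.commutator_le_left _ _) ?_
  refine (hw.min c hgood).trans (Subgroup.card_le_of_le (Subgroup.normalClosure_le_normal ?_))
  exact Set.singleton_subset_iff.2 hcK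

local notation "SK" => (S : Subgroup Q) ⊓ Kc w

/-- The torus fixes exactly what it fixes modulo `Zk`. -/
theorem tor_comm {k k' a : Q} (hk : k ∈ Tor S w t) (hk' : k' ∈ Tor S w t) (ha : a ∈ SK)
    (ha2 : a * a = 1) : k' * k * a * (k' * k)⁻¹ = k * k' * a * (k * k')⁻¹ := by
  obtain ⟨hkK, hkN, -⟩ := mem_tor.1 hk
  obtain ⟨hkK', hkN', -⟩ := mem_tor.1 hk'
  by_cases hz : a ∈ ZK
  · rw [zk_comm hz (mul_mem hkK' hkK), zk_comm hz (mul_mem hkK hkK'), mul_inv_cancel_right,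
      mul_inv_cancel_right]
  have hq : a * a ∈ ZK := by rw [ha2]; exact one_mem _
  have hab := hF.abel k hk k' hk' a ⟨ha, hq, hz⟩
  have hmem : ∀ g ∈ NS S, g ∈ Kc w → g * a * g⁻¹ ∈ SK := fun g hg hgK =>
    Subgroup.mem_inf.2 ⟨(Subgroup.mem_normalizer_iff.1 hg a).1 ha.1,
      mul_mem (mul_mem hgK ha.2) (inv_mem hgK)⟩
  have hsq : ∀ g : Q, g * a * g⁻¹ * (g * a * g⁻¹) = 1 := fun g => by
    rw [show g * a * g⁻¹ * (g * a * g⁻¹) = g * (a * a) * g⁻¹ by group, ha2, mul_one, mul_inv_cancel]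
  set X := k * k' * a * (k * k')⁻¹ with hX
  set Y := k' * k * a * (k' * k)⁻¹ with hY
  have hXs := hsq (k * k')
  have hYs := hsq (k' * k)
  have hXY : Y * X = X * Y := (h.sq_zk_central hw hF (hmem _ (mul_mem hkN hkN') (mul_mem hkK hkK'))
    (by rw [hXs]; exact one_mem _)) Y (hmem _ (mul_mem hkN' hkN) (mul_mem hkK' hkK))
  rcases h.zk_invol hw hab (by
    rw [inv_eq_of_mul_eq_one_right hXs, mul_assoc, ← mul_assoc Y, hXY, mul_assoc X Y Y, hYs, mul_one,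
      hXs]) with e | e
  · exact (inv_mul_eq_one.1 e).symm
  · exfalso
    have hc : (k * k')⁻¹ * (k' * k) ∈ NS S ⊓ Kc w :=
      Subgroup.mem_inf.2 ⟨mul_mem (inv_mem (mul_mem hkN hkN')) (mul_mem hkN' hkN),
        mul_mem (inv_mem (mul_mem hkK hkK')) (mul_mem hkK' hkK)⟩
    refine h.conj_ne_v hw hc.1 hc.2 (h.sq_zk_central hw hF ha hq) ?_
    rw [inv_mul_eq_iff_eq_mul] at e
    calc (k * k')⁻¹ * (k' * k) * a * ((k * k')⁻¹ * (k' * k))⁻¹
        = (k * k')⁻¹ * Y * (k * k') := by rw [hY]; group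
      _ = a * ((k * k')⁻¹ * (v * (k * k'))) := by rw [e, hX]; group
      _ = a * v := by rw [← h.v_comm, inv_mul_cancel_left]

/-- The involutions of `S ∩ K` form a subgroup. -/
def omega : Subgroup Q where
  carrier := {a | a ∈ SK ∧ a * a = 1}
  one_mem' := ⟨one_mem _, one_mul _⟩
  mul_mem' := fun {a b} ⟨ha, ha2⟩ ⟨hb, hb2⟩ => ⟨mul_mem ha hb, by
    have e := h.sq_zk_central hw hF hb (by rw [hb2]; exact one_mem _) a ha
    rw [mul_assoc, ← mul_assoc b, ← e, mul_assoc a b b, hb2, mul_one, ha2]⟩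
  inv_mem' := fun {a} ⟨ha, ha2⟩ => ⟨inv_mem ha, by rw [← mul_inv_rev, ha2, inv_one]⟩

/-- The complement `[Ω, k]` of `⟨v⟩` in the involutions of `S ∩ K`. -/
theorem exists_complement (hvK : v ∈ ZK) : ∃ U : Subgroup Q,
    (∀ a ∈ SK, a * a = 1 → a ∈ U ∨ a * v ∈ U) ∧
    (∀ k ∈ Tor S w t, ∀ a ∈ U, k * a * k⁻¹ ∈ U) ∧ U ≤ SK ∧ (∀ a ∈ U, a * a ∈ ZK) ∧ v ∉ U := by
  classical
  obtain ⟨k, hk, hkw⟩ := h.exists_moving hw hF
  obtain ⟨hkK, hkN, -⟩ := mem_tor.1 hk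
  set Ω := h.omega hw hF with hΩ
  have hmemΩ : ∀ g ∈ NS S, g ∈ Kc w → ∀ a ∈ Ω, g * a * g⁻¹ ∈ Ω := fun g hg hgK a ha =>
    ⟨Subgroup.mem_inf.2 ⟨(Subgroup.mem_normalizer_iff.1 hg a).1 ha.1.1,
      mul_mem (mul_mem hgK ha.1.2) (inv_mem hgK)⟩, by
      rw [show g * a * g⁻¹ * (g * a * g⁻¹) = g * (a * a) * g⁻¹ by group, ha.2, mul_one, mul_inv_cancel]⟩
  have hcom : ∀ a ∈ Ω, ∀ b ∈ Ω, a * b = b * a := fun a ha b hb =>
    h.sq_zk_central hw hF hb.1 (by rw [hb.2]; exact one_mem _) a ha.1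
  let φ : ↥Ω →* ↥Ω := MonoidHom.mk'
    (fun a => ⟨k * a * k⁻¹ * a, mul_mem (hmemΩ k hkN hkK a a.2) a.2⟩) fun a b => Subtype.ext (by
      show k * ((a : Q) * b) * k⁻¹ * ((a : Q) * b) = k * a * k⁻¹ * a * (k * b * k⁻¹ * b)
      calc k * ((a : Q) * b) * k⁻¹ * ((a : Q) * b)
          = k * a * k⁻¹ * ((k * b * k⁻¹) * a) * b := by group
        _ = k * a * k⁻¹ * ((a : Q) * (k * b * k⁻¹)) * b := by
            rw [hcom _ (hmemΩ k hkN hkK b b.2) a a.2]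
        _ = _ := by group)
  have hv : v ∈ Ω := ⟨Subgroup.mem_inf.2 ⟨h.v_mem, hvK.1⟩, h.v_sq⟩
  have hfix : ∀ a ∈ Ω, k * a * k⁻¹ = a → a = 1 ∨ a = v := by
    intro a ha e
    by_cases hz : a ∈ ZK
    · exact h.zk_invol hw hz ha.2
    exfalso
    have hq : a * a ∈ ZK := by rw [ha.2]; exact one_mem _
    obtain ⟨k', hk', hk'z⟩ := hF.trans a w ⟨ha.1, hq, hz⟩ (h.w_invImg hw)
    obtain ⟨hkK', hkN', -⟩ := mem_tor.1 hk'
    set b := k' * a * k'⁻¹ with hb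
    have hkb : k * b * k⁻¹ = b := by
      calc k * b * k⁻¹ = k * k' * a * (k * k')⁻¹ := by rw [hb]; group
        _ = k' * k * a * (k' * k)⁻¹ := (h.tor_comm hw hF hk hk' ha.1 ha.2).symm
        _ = k' * (k * a * k⁻¹) * k'⁻¹ := by group
        _ = b := by rw [e, hb]
    refine hkw ?_
    have hw' : w = b * (b⁻¹ * w) := by group
    have e2 : k * w * k⁻¹ = w := by
      calc k * w * k⁻¹ = k * b * k⁻¹ * (k * (b⁻¹ * w) * k⁻¹) := by group
        _ = b * (b⁻¹ * w) := by rw [hkb, zk_comm hk'z hkK, mul_inv_cancel_right]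
        _ = w := by group
    rw [e2, mul_inv_cancel]
    exact one_mem _
  have hvrange : (⟨v, hv⟩ : ↥Ω) ∉ φ.range := by
    rintro ⟨a, ha⟩
    have e : k * (a : Q) * k⁻¹ * a = v := congrArg Subtype.val ha
    have e' : k * (a : Q) * k⁻¹ = a * v := by
      rw [← e, hcom _ (hmemΩ k hkN hkK a a.2) a a.2, ← mul_assoc, a.2.2, one_mul]
    exact h.conj_ne_v hw hkN hkK (h.sq_zk_central hw hF a.2.1 (by rw [a.2.2]; exact one_mem _)) e'
  have hker : Nat.card φ.ker = 2 := by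
    have hvker : (⟨v, hv⟩ : ↥Ω) ∈ φ.ker := Subtype.ext (by
      show k * v * k⁻¹ * v = 1
      rw [h.v_comm k, mul_inv_cancel_right, h.v_sq])
    haveI : Fintype φ.ker := Fintype.ofFinite _
    rw [Nat.card_eq_fintype_card, Fintype.card_eq_nat_card]
    refine Nat.card_eq_two_iff.2 ⟨1, ⟨_, hvker⟩, fun e => h.v_ne ?_, ?_⟩
    · exact (congrArg (fun z : φ.ker => ((z : ↥Ω) : Q)) e).symm
    refine Set.eq_univ_of_forall fun a => ?_
    have e : k * ((a : ↥Ω) : Q) * k⁻¹ * (a : ↥Ω) = 1 := congrArg Subtype.val a.2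
    have e' : k * ((a : ↥Ω) : Q) * k⁻¹ = (a : ↥Ω) :=
      (eq_inv_of_mul_eq_one_left e).trans (inv_eq_of_mul_eq_one_right (a : ↥Ω).2.2)
    rcases hfix _ (a : ↥Ω).2 e' with h' | h'
    · exact Or.inl (Subtype.ext (Subtype.ext h'))
    · exact Or.inr (Subtype.ext (Subtype.ext h'))
  have hidx : φ.range.index = 2 := by
    have h1 := Subgroup.card_mul_index φ.range
    have h2 := Subgroup.card_mul_index φ.ker
    rw [Subgroup.index_ker, hker] at h2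
    have h3 : 0 < Nat.card φ.range := Nat.card_pos
    refine Nat.eq_of_mul_eq_mul_left h3 ?_
    rw [h1, ← h2]; ring
  refine ⟨φ.range.map Ω.subtype, fun a ha ha2 => ?_, ?_, ?_, ?_, ?_⟩
  · by_cases hr : (⟨a, ha, ha2⟩ : ↥Ω) ∈ φ.range
    · exact Or.inl ⟨_, hr, rfl⟩
    · refine Or.inr ⟨⟨a, ha, ha2⟩ * ⟨v, hv⟩, ?_, rfl⟩
      exact (Subgroup.mul_mem_iff_of_index_two hidx).2 (iff_of_false hr hvrange)
  · rintro k' hk' _ ⟨_, ⟨a, rfl⟩, rfl⟩
    obtain ⟨hkK', hkN', -⟩ := mem_tor.1 hk'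
    refine ⟨_, ⟨⟨_, hmemΩ k' hkN' hkK' a a.2⟩, rfl⟩, ?_⟩
    show k * (k' * a * k'⁻¹) * k⁻¹ * (k' * a * k'⁻¹) = k' * (k * a * k⁻¹ * a) * k'⁻¹
    rw [show k * (k' * (a : Q) * k'⁻¹) * k⁻¹ = k * k' * a * (k * k')⁻¹ by group,
      ← h.tor_comm hw hF hk hk' a.2.1 a.2.2]
    group
  · rintro _ ⟨b, -, rfl⟩; exact b.2.1
  · rintro _ ⟨b, -, rfl⟩
    show (b : Q) * b ∈ ZK
    rw [b.2.2]; exact one_mem _
  · rintro ⟨b, hb, e⟩
    exact hvrange ((show b = ⟨v, hv⟩ from Subtype.ext e) ▸ hb)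

/-- `S ∩ K` of Suzuki type of order 64 modulo `Zk`: the derived group avoids `v`. -/
theorem derived_eight (hvK : v ∈ ZK) (C : Subgroup ↥(SK))
    (hC : ∀ x : ↥(SK), x ∈ C ↔ (x : Q) * x ∈ ZK) (hidx : C.index = 8)
    (hsz : ∀ x y : ↥(SK), ((x : Q) * x)⁻¹ * ((y : Q) * y) ∈ ZK → x⁻¹ * y ∈ C)
    (hsq : ∀ x : ↥(SK), x * x ∈ C) (hder : ∀ x y : ↥(SK), x * y * x⁻¹ * y⁻¹ ∈ C)
    (x₀ y₀ : ↥(SK)) {U : Subgroup Q}
    (hcov : ∀ a ∈ SK, a * a = 1 → a ∈ U ∨ a * v ∈ U)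
    (hinv : ∀ k ∈ Tor S w t, ∀ a ∈ U, k * a * k⁻¹ ∈ U) (hle : U ≤ SK)
    (hUq : ∀ a ∈ U, a * a ∈ ZK) :
    (x₀ : Q) * y₀ * (x₀ : Q)⁻¹ * (y₀ : Q)⁻¹ ∈ U := by
  classical
  let q : ↥(SK) → Prop := fun a => (a : Q) * a ∈ ZK
  have hq : ∀ a : ↥(SK), q a ↔ (a : Q) * a ∈ ZK := fun a => Iff.rfl
  have hcen : ∀ a : ↥(SK), q a → a ∈ Subgroup.center ↥(SK) := fun a ha =>
    Subgroup.mem_center_iff.2 fun g =>
      Subtype.ext (h.sq_zk_central hw hF a.2 ha g g.2)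
  set Us := U.subgroupOf (SK) with hUs
  have hUc : ∀ a ∈ Us, a ∈ Subgroup.center ↥(SK) := fun a ha => hcen a ((hq a).2 (hUq a ha))
  haveI : Us.Normal := ⟨fun a ha g => by
    rw [Subgroup.mem_center_iff.1 (hUc a ha) g, mul_inv_cancel_right]; exact ha⟩
  set ρ := QuotientGroup.mk' Us
  set vs : ↥(SK) := ⟨v, Subgroup.mem_inf.2 ⟨h.v_mem, hvK.1⟩⟩
  have hcomm : ∀ a b : ↥(SK), (a : Q) * b * (a : Q)⁻¹ * (b : Q)⁻¹ ∈ U ∨
      (a : Q) * b * (a : Q)⁻¹ * (b : Q)⁻¹ * v ∈ U := by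
    intro a b
    have h1 := (Cfsg.Agent.Lib.CentralInt88.commutator_sq_mem (fun s => hcen _ ((hC _).1 (hsq s))) a b).2
    rw [commutatorElement_def] at h1
    exact hcov _ (a * b * a⁻¹ * b⁻¹).2 (congrArg Subtype.val h1)
  have hCn : C ≤ Subgroup.center ↥(SK) := fun a ha => hcen a ((hC a).1 ha)
  have hUC : Us ≤ C := fun a ha => (hC a).2 (hUq a ha)
  obtain ⟨zb, hzC, hzc⟩ := exists_radical (C.map ρ) (by
      rintro _ ⟨a, ha, rfl⟩
      refine Subgroup.mem_center_iff.2 fun g => ?_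
      obtain ⟨g, rfl⟩ := QuotientGroup.mk'_surjective Us g
      rw [← map_mul, ← map_mul, Subgroup.mem_center_iff.1 (hCn ha) g]) (by
      rw [Subgroup.index_map_eq _ (QuotientGroup.mk'_surjective Us)
        (le_of_eq_of_le (QuotientGroup.ker_mk' Us) hUC), hidx])
    (ρ vs) (by rw [← map_mul, show vs * vs = 1 from Subtype.ext h.v_sq, map_one]) (fun a b => by
      obtain ⟨a, rfl⟩ := QuotientGroup.mk'_surjective Us a
      obtain ⟨b, rfl⟩ := QuotientGroup.mk'_surjective Us b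
      rw [← map_inv, ← map_inv, ← map_mul, ← map_mul, ← map_mul]
      rcases hcomm a b with e | e
      · exact Or.inl ((QuotientGroup.eq_one_iff _).2 e)
      · refine Or.inr (QuotientGroup.eq.2 ?_)
        show ((a * b * a⁻¹ * b⁻¹)⁻¹ * vs : ↥(SK)) ∈ Us
        have h1 := inv_mem e
        rw [mul_inv_rev, inv_eq_of_mul_eq_one_right h.v_sq, ← h.v_comm] at h1
        exact h1)
  obtain ⟨z, rfl⟩ := QuotientGroup.mk'_surjective Us zb
  have hzq : ¬ q z := fun hh => hzC (Subgroup.mem_map_of_mem _ ((hC z).2 hh))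
  have hzU : ∀ g : ↥(SK), (z : Q) * g * (z : Q)⁻¹ * (g : Q)⁻¹ ∈ U := fun g => by
    have e := Subgroup.mem_center_iff.1 hzc (ρ g)
    rw [← map_mul, ← map_mul] at e
    have e1 := QuotientGroup.eq.1 e.symm
    have e2 : (((z * g)⁻¹ * (g * z) : ↥(SK)) : Q) ∈ U := e1
    have e3 : (z : Q) * g * (z : Q)⁻¹ * (g : Q)⁻¹ =
        ((z : Q) * g) * ((((z : Q) * g)⁻¹ * ((g : Q) * z)))⁻¹ * ((z : Q) * g)⁻¹ := by group
    have hc := Subgroup.mem_center_iff.1 (inv_mem (hUc _ e1)) (z * g)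
    have hc' := congrArg Subtype.val hc
    simp only [Subgroup.coe_mul, Subgroup.coe_inv] at hc'
    rw [e3, hc', mul_inv_cancel_right]
    exact inv_mem e2
  -- every element is conjugate to `z` modulo `C`
  by_cases hxq : q x₀
  · have e := congrArg Subtype.val (Subgroup.mem_center_iff.1 (hcen _ hxq) y₀)
    simp only [Subgroup.coe_mul] at e
    rw [← e, mul_inv_cancel_right, mul_inv_cancel]
    exact one_mem _
  have himg : ∀ a : ↥(SK), ¬ q a → InvImg S w ((a : Q) * a) := fun a ha =>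
    ⟨(a * a).2, (hC _).1 (hsq a), fun e => ha e⟩
  obtain ⟨k, hk, hkz⟩ := hF.trans _ _ (himg z hzq) (himg x₀ hxq)
  obtain ⟨hkK, hkN, -⟩ := mem_tor.1 hk
  have hconj : ∀ g ∈ NS S, g ∈ Kc w → ∀ a ∈ SK, g * a * g⁻¹ ∈ SK := fun g hg hgK a ha =>
    Subgroup.mem_inf.2 ⟨(Subgroup.mem_normalizer_iff.1 hg a).1 ha.1,
      mul_mem (mul_mem hgK ha.2) (inv_mem hgK)⟩
  set z' : ↥(SK) := ⟨k * z * k⁻¹, hconj k hkN hkK z z.2⟩ with hz'
  have hzx : q (z'⁻¹ * x₀) := (hC _).1 (hsz z' x₀ (by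
    show (k * z * k⁻¹ * (k * z * k⁻¹))⁻¹ * _ ∈ _
    rw [show k * (z : Q) * k⁻¹ * (k * z * k⁻¹) = k * ((z : Q) * z) * k⁻¹ by group]
    exact hkz))
  have hd := congrArg Subtype.val (Subgroup.mem_center_iff.1 (hcen _ hzx) y₀)
  simp only [Subgroup.coe_mul, Subgroup.coe_inv] at hd
  have hy' : k⁻¹ * (y₀ : Q) * k⁻¹⁻¹ ∈ SK := hconj _ (inv_mem hkN) (inv_mem hkK) y₀ y₀.2
  have hres := hinv k hk _ (hzU ⟨_, hy'⟩)
  have e4 : k * ((z : Q) * (k⁻¹ * y₀ * k⁻¹⁻¹) * (z : Q)⁻¹ * (k⁻¹ * y₀ * k⁻¹⁻¹)⁻¹) * k⁻¹ =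
      (z' : Q) * y₀ * (z' : Q)⁻¹ * (y₀ : Q)⁻¹ := by rw [hz']; group
  rw [e4] at hres
  have e5 : (x₀ : Q) * y₀ * (x₀ : Q)⁻¹ * (y₀ : Q)⁻¹ =
      (z' : Q) * (((z' : Q)⁻¹ * x₀) * y₀ * ((z' : Q)⁻¹ * x₀)⁻¹) * (z' : Q)⁻¹ * (y₀ : Q)⁻¹ := by
    group
  rw [e5, ← hd, mul_inv_cancel_right]
  exact hres

end Loc

namespace Loc

variable {S : Sylow 2 Q} {v w : Q} (h : Loc S v) (hw : Pick S v w)
include h hw

/-- The Bender group does not contain `v`, hence meets its centraliser trivially. -/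
theorem zk_eq_bot (hT : Target ↥(Kb w)) {t : Q} (hF : Frame S w t) : Zk (Kc w) = ⊥ := by
  classical
  haveI : Fact (Nat.Prime 2) := ⟨Nat.prime_two⟩
  by_contra hne
  obtain ⟨z, hz, hz1⟩ := (Subgroup.ne_bot_iff_exists_ne_one.1 hne).elim (fun z hz => (⟨z.1, z.2, fun e => hz (Subtype.ext e)⟩ : ∃ z, z ∈ Zk (Kc w) ∧ z ≠ 1))
  have hvK : v ∈ Zk (Kc w) := by
    obtain ⟨k, hk⟩ := exists_pow_two S (h.zk_le hw hz)
    obtain ⟨j, hj1, hj2⟩ : ∃ j, z ^ j * z ^ j = 1 ∧ z ^ j ≠ 1 := by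
      obtain ⟨i, -, hi⟩ := (Nat.dvd_prime_pow Nat.prime_two).1 (orderOf_dvd_of_pow_eq_one hk)
      rcases i with _ | i
      · exact absurd (orderOf_eq_one_iff.1 (by simpa using hi)) hz1
      refine ⟨2 ^ i, by rw [← pow_add, ← two_mul, ← pow_succ', ← hi, pow_orderOf_eq_one], fun e => ?_⟩
      have h1 := Nat.le_of_dvd (pow_pos two_pos i) (orderOf_dvd_of_pow_eq_one e)
      rw [hi, pow_succ] at h1
      have : 0 < 2 ^ i := pow_pos two_pos i
      omega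
    exact (h.zk_invol hw (pow_mem hz j) hj1).resolve_left hj2 ▸ pow_mem hz j
  set σ : ↥(Kc w) →* ↥(Kb w) := (QuotientGroup.mk' (Zk (Kc w))).subgroupMap (Kc w) with hσ
  have hσs : Function.Surjective σ := MonoidHom.subgroupMap_surjective _ _
  have hker : ∀ x : ↥(Kc w), x ∈ σ.ker ↔ (x : Q) ∈ Zk (Kc w) := fun x => by
    rw [MonoidHom.mem_ker]
    exact ⟨fun e => (QuotientGroup.eq_one_iff _).1 (congrArg Subtype.val e),
      fun e => Subtype.ext ((QuotientGroup.eq_one_iff _).2 e)⟩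
  have hperf : commutator ↥(Kc w) = ⊤ := by
    refine Subgroup.map_injective (Kc w).subtype_injective ?_
    rw [Subgroup.map_subtype_commutator, ← MonoidHom.range_eq_map, Subgroup.range_subtype]
    exact h.perfect hw hF
  have hkc : σ.ker ≤ Subgroup.center ↥(Kc w) := fun x hx =>
    Subgroup.mem_center_iff.2 fun g => Subtype.ext (zk_comm ((hker x).1 hx) g.2)
  have hstem : Cfsg.IsStemExtension σ := ⟨hσs, hkc, by rw [hperf]; exact le_top⟩
  set vk : ↥(Kc w) := ⟨v, hvK.1⟩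
  have hvker : vk ∈ σ.ker := (hker _).2 hvK
  have h2dvd : 2 ∣ Nat.card σ.ker := by
    refine h.invol ▸ ?_
    rw [show orderOf v = orderOf (⟨vk, hvker⟩ : σ.ker) by
      rw [Subgroup.orderOf_mk]; exact (Subgroup.orderOf_coe vk)]
    exact orderOf_dvd_natCard _
  obtain ⟨P, hP⟩ := Cfsg.Agent.Lib.Balance.exists_sylow_inf_normal S (Kc w)
  have hmemP : ∀ x : ↥(Kc w), x ∈ (P : Subgroup ↥(Kc w)) ↔ (x : Q) ∈ (S : Subgroup Q) := fun x => by
    rw [hP]; exact Iff.rfl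
  have hvd : vk ∈ ⁅(P : Subgroup ↥(Kc w)), (P : Subgroup ↥(Kc w))⁆ :=
    Cfsg.Agent.Lib.Multiplier.mem_commutator_sylow P vk (hkc hvker)
      (hperf ▸ Subgroup.mem_top vk) ((hmemP vk).2 h.v_mem)
  set T := P.mapSurjective hσs with hTdef
  have hmemT : ∀ x : ↥(Kc w), (x : Q) ∈ (S : Subgroup Q) → σ x ∈ (T : Subgroup ↥(Kb w)) := fun x hx => by
    rw [hTdef, Sylow.coe_mapSurjective]; exact Subgroup.mem_map_of_mem _ ((hmemP x).2 hx)
  rcases hT with ⟨F, _, _, n, hn, hF', ⟨e⟩⟩ | ⟨F, _, _, m, hm, hF', ⟨e⟩⟩ | ⟨F, _, _, n, hn, hF', ⟨e⟩⟩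
  · obtain ⟨hsq, -⟩ := Cfsg.Agent.Lib.CentralInt88.sylow_linear hF' e T
    refine h.v_ne (congrArg Subtype.val (Subgroup.mem_bot.1 ?_ : vk = 1))
    refine (Subgroup.commutator_eq_bot_iff_le_centralizer.2 fun a ha => ?_ :
      ⁅(P : Subgroup ↥(Kc w)), (P : Subgroup ↥(Kc w))⁆ = ⊥) ▸ hvd
    refine Subgroup.mem_centralizer_iff.2 fun b hb => Subtype.ext ?_
    refine h.sq_zk_central hw hF ⟨(hmemP a).1 ha, a.2⟩ ((hker (a * a)).1 ?_) b ⟨(hmemP b).1 hb, b.2⟩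
    rw [MonoidHom.mem_ker, map_mul]
    exact hsq _ (hmemT a ((hmemP a).1 ha))
  · by_cases hm2 : 2 ≤ m
    · have := h2dvd.trans (Cfsg.Agent.Lib.CentralInt88.ker_card_dvd
        (Cfsg.Agent.Lib.Schur.Universe.hasSchurMultiplier_lift e.symm
          (Cfsg.Agent.S2111.result hm2 hF')) σ hstem)
      rw [Nat.card_congr Multiplicative.toAdd, Nat.card_zmod] at this
      omega
    obtain rfl : m = 1 := by omega
    obtain ⟨hcardT, -, h3⟩ := Cfsg.Agent.Lib.CentralInt88.sylow_suzuki le_rfl hF' e T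
    rw [← Subgroup.map_subtype_commutator,
      Subgroup.card_map_of_injective (T : Subgroup ↥(Kb w)).subtype_injective] at h3
    obtain ⟨c⟩ := Cfsg.Agent.Lib.SzSylow.exists_coords_Sz ⟨hF'⟩ le_rfl
      (T.mapSurjective (f := e.toMonoidHom) e.surjective)
    let c' := c.trans ((e.subgroupMap (T : Subgroup ↥(Kb w))).trans
      (MulEquiv.subgroupCongr (Sylow.coe_mapSurjective _ T).symm))
    obtain ⟨⟨hnab, hinj⟩, hcen⟩ := sz_shape c' ⟨hF'⟩ le_rfl h3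
    let τ : ↥((S : Subgroup Q) ⊓ Kc w) →* ↥(T : Subgroup ↥(Kb w)) :=
      MonoidHom.mk' (fun x => ⟨σ ⟨x, x.2.2⟩, hmemT _ x.2.1⟩) fun a b => Subtype.ext
        (show σ ⟨(a : Q) * b, (a * b).2.2⟩ = _ from map_mul σ ⟨(a : Q), a.2.2⟩ ⟨(b : Q), b.2.2⟩)
    have hτs : Function.Surjective τ := by
      rintro ⟨y, hy⟩
      rw [hTdef, Sylow.coe_mapSurjective] at hy
      obtain ⟨x, hx, rfl⟩ := hy
      exact ⟨⟨x, (hmemP x).1 hx, x.2⟩, rfl⟩
    have hτ1 : ∀ x, τ x = 1 ↔ (x : Q) ∈ Zk (Kc w) := fun x =>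
      ⟨fun e => (hker ⟨x, x.2.2⟩).1 (congrArg Subtype.val e), fun e =>
        Subtype.ext ((hker ⟨x, x.2.2⟩).2 e)⟩
    set C := (Subgroup.center ↥(T : Subgroup ↥(Kb w))).comap τ with hCdef
    have hC : ∀ x, x ∈ C ↔ (x : Q) * x ∈ Zk (Kc w) := fun x => by
      rw [hCdef, Subgroup.mem_comap, ← hnab.inv, ← map_mul, hτ1]; rfl
    have hidx : C.index = 8 := by
      rw [hCdef, Subgroup.index_comap_of_surjective _ hτs]
      have h1 := Subgroup.card_mul_index (Subgroup.center ↥(T : Subgroup ↥(Kb w)))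
      rw [hcen, hcardT] at h1
      refine Nat.eq_of_mul_eq_mul_left (show 0 < 2 ^ (2 * 1 + 1) by positivity) ?_
      rw [h1]; norm_num
    have hsq : ∀ x, x * x ∈ C := fun x => by
      rw [hCdef, Subgroup.mem_comap, map_mul]; exact hnab.sq _
    have hder : ∀ x y, x * y * x⁻¹ * y⁻¹ ∈ C := fun x y => by
      rw [hCdef, Subgroup.mem_comap, map_mul, map_mul, map_mul, map_inv, map_inv]; exact hnab.der _ _
    have hsz : ∀ x y : ↥((S : Subgroup Q) ⊓ Kc w),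
        ((x : Q) * x)⁻¹ * ((y : Q) * y) ∈ Zk (Kc w) → x⁻¹ * y ∈ C := fun x y hxy => by
      have h1 := (hτ1 ((x * x)⁻¹ * (y * y))).2 hxy
      rw [map_mul, map_inv, inv_mul_eq_one, map_mul, map_mul] at h1
      rw [hCdef, Subgroup.mem_comap, map_mul, map_inv]
      exact hinj _ _ h1
    obtain ⟨U, hcov, hinv, hle, hUq, hvU⟩ := h.exists_complement hw hF hvK
    refine hvU ?_
    have hsub : ⁅(P : Subgroup ↥(Kc w)), (P : Subgroup ↥(Kc w))⁆ ≤ U.comap (Kc w).subtype := by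
      rw [Subgroup.commutator_le]
      intro a ha b hb
      show (a : Q) * b * (a : Q)⁻¹ * (b : Q)⁻¹ ∈ U
      exact h.derived_eight hw hF hvK C hC hidx hsz hsq hder
        ⟨a, (hmemP a).1 ha, a.2⟩ ⟨b, (hmemP b).1 hb, b.2⟩ hcov hinv hle hUq
    exact hsub hvd
  · have h2n : 2 ^ 2 ≤ 2 ^ n := Nat.pow_le_pow_right two_pos hn
    have := h2dvd.trans (Cfsg.Agent.Lib.CentralInt88.ker_card_dvd
      (Cfsg.Agent.Lib.Schur.Universe.hasSchurMultiplier_lift e.symm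
        (Cfsg.Agent.S2089.result 3 (2 ^ n) hF' le_rfl (by omega) (by simp))) σ hstem)
    rw [Nat.card_congr Multiplicative.toAdd, Nat.card_zmod] at this
    have h3 := this.trans (Nat.gcd_dvd_left 3 (2 ^ n + 1))
    omega

end Loc

end Cfsg.Agent.Inter3185
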