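import Cfsg.Agent.Lib.CentralInt88.Families
import Cfsg.Agent.Lib.SzSylow.Aut
import Cfsg.Agent.Lib.U3Sylow.Aut
import Cfsg.Agent.Lib.BenderConsumers23.Structure

/-!
# The Sylow 2-subgroups of the Bender groups (helper88)
-/

set_option autoImplicit false
set_option linter.style.haveILetI false
set_option linter.unusedSectionVars false

namespace Cfsg.Agent.Inter3185

open scoped commutatorElement

universe u

/-- What is used of a nonabelian Sylow 2-subgroup of a Bender group. -/
structure Nab (P : Type u) [Group P] : Prop where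
  sq : ∀ x : P, x * x ∈ Subgroup.center P
  inv : ∀ x : P, x * x = 1 ↔ x ∈ Subgroup.center P
  der : ∀ x y : P, x * y * x⁻¹ * y⁻¹ ∈ Subgroup.center P
  le_der : Subgroup.center P ≤ commutator P
  nab : ∃ x y : P, x * y ≠ y * x

/-- The Suzuki shape: squaring is injective modulo the centre. -/
def SzShape (P : Type u) [Group P] : Prop :=
  Nab P ∧ ∀ x y : P, x * x = y * y → x⁻¹ * y ∈ Subgroup.center P

/-- The unitary shape: commutators with a noncentral element fill the centre. -/
def UShape (P : Type u) [Group P] : Prop :=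
  Nab P ∧ (∀ x : P, x ∉ Subgroup.center P → ∀ z ∈ Subgroup.center P,
    ∃ y : P, x * y * x⁻¹ * y⁻¹ = z) ∧ 16 * Nat.card (Subgroup.center P) ≤ Nat.card P

/-- The three shapes. -/
def KShape (P : Type u) [Group P] : Prop :=
  4 ≤ Nat.card (Subgroup.center P) ∧ ((∀ x : P, x * x = 1) ∨ SzShape P ∨ UShape P)

theorem comm_of_forall_sq {P : Type u} [Group P] (h : ∀ x : P, x * x = 1) (x y : P) :
    x * y = y * x := by
  have e : ∀ z : P, z⁻¹ = z := fun z => inv_eq_of_mul_eq_one_right (h z)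
  calc x * y = (x * y)⁻¹ := (e _).symm
    _ = y * x := by rw [mul_inv_rev, e, e]

section Sz

variable {F : Type} [Field F] [Fintype F] {m : ℕ} {P : Type u} [Group P]

open Cfsg.Agent.Lib.SzSylow Cfsg.Agent.Lib.LieTwisted.Suzuki

theorem sz_shape (c : Coords F m P) (h : IsSzField F m) (hm : 1 ≤ m)
    (hder : Nat.card ↥(commutator P) = 2 ^ (2 * m + 1)) : SzShape P ∧
      Nat.card (Subgroup.center P) = 2 ^ (2 * m + 1) := by
  haveI := c.finite
  have hcen : Nat.card (Subgroup.center P) = 2 ^ (2 * m + 1) := by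
    have e : Subgroup.center P ≃ F :=
      ⟨fun z => c.b z, fun y => ⟨c.pt 0 y, (c.mem_center_iff h hm).2 (c.a_pt _ _)⟩,
        fun z => Subtype.ext (c.ext (by
          show c.a (c.pt 0 (c.b z)) = _
          rw [c.a_pt, (c.mem_center_iff h hm).1 z.2]) (c.b_pt _ _)),
        fun y => c.b_pt _ _⟩
    rw [Nat.card_congr e, Nat.card_eq_fintype_card, h.card]
  have hinv : ∀ x : P, x * x = 1 ↔ x ∈ Subgroup.center P := fun x => by
    rw [c.sq_eq_one_iff h, c.mem_center_iff h hm]
  have hcomm : ∀ x y : P, x * y * x⁻¹ * y⁻¹ ∈ Subgroup.center P := fun x y => by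
    rw [c.mem_center_iff h hm]
    have e := congrArg c.a (show x * y * x⁻¹ * y⁻¹ * (y * x) = x * y by group)
    rw [c.a_mul, c.a_mul y x, c.a_mul x y] at e
    linear_combination e
  have hle : commutator P ≤ Subgroup.center P := by
    rw [commutator_def, Subgroup.commutator_le]
    intro x _ y _
    exact hcomm x y
  refine ⟨⟨⟨fun x => (c.mem_center_iff h hm).2 (c.a_sq h x), hinv, hcomm,
    (Subgroup.eq_of_le_of_card_ge hle (by rw [hcen, hder])).ge, ?_⟩, fun x y e => ?_⟩, hcen⟩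
  · by_contra hne
    push Not at hne
    have h1 : commutator P = ⊥ := by
      rw [commutator_def, Subgroup.commutator_eq_bot_iff_le_centralizer]
      exact fun x _ y _ => hne y x
    rw [h1, Subgroup.card_bot] at hder
    exact absurd hder.symm (Nat.one_lt_two_pow (by omega)).ne'
  · have e' := congrArg c.b e
    rw [c.b_sq h, c.b_sq h] at e'
    have ha : c.a x = c.a y := norm_injective h e'
    rw [c.mem_center_iff h hm]
    have e2 := congrArg c.a (mul_inv_cancel_left x y)
    rw [c.a_mul, ha] at e2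
    linear_combination e2

end Sz

section U3

variable {F : Type} [Field F] [Fintype F] {n : ℕ} {P : Type u} [Group P]

open Cfsg.Agent.Lib.U3Sylow Cfsg.Agent.Lib.Unitary

theorem u3_shape (c : Coords F (2 ^ n) P) (hn : 2 ≤ n) (hF : Fintype.card F = (2 ^ n) ^ 2) :
    UShape P ∧ Nat.card (Subgroup.center P) = 2 ^ n := by
  haveI := c.finite
  have hcen := c.card_center hF
  have hcomm : ∀ x y : P, x * y * x⁻¹ * y⁻¹ ∈ Subgroup.center P := fun x y => by
    rw [c.mem_center_iff hF]
    have e := congrArg c.a (show x * y * x⁻¹ * y⁻¹ * (y * x) = x * y by group)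
    rw [c.a_mul, c.a_mul y x, c.a_mul x y] at e
    linear_combination e
  have hbc : ∀ x y : P, c.b (x * y * x⁻¹ * y⁻¹) =
      c.a x ^ 2 ^ n * c.a y + c.a y ^ 2 ^ n * c.a x := by
    intro x y
    have e := congrArg c.b (show x * y * x⁻¹ * y⁻¹ * (y * x) = x * y by group)
    rw [c.b_mul, c.b_mul y x, c.b_mul x y, (c.mem_center_iff hF).1 (hcomm x y), zero_pow_q hF,
      zero_mul, add_zero] at e
    linear_combination e - Coords.add_self hF (c.a y ^ 2 ^ n * c.a x)
  have hfull : ∀ x : P, x ∉ Subgroup.center P → ∀ z ∈ Subgroup.center P,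
      ∃ y : P, x * y * x⁻¹ * y⁻¹ = z := by
    intro x hx z hz
    have ha : c.a x ≠ 0 := fun h => hx ((c.mem_center_iff hF).2 h)
    have hz0 := (c.mem_center_iff hF).1 hz
    obtain ⟨⟨⟨p, w⟩, hw⟩, hp⟩ := exists_pair hF (1 : F)
    have hw' : w + w ^ 2 ^ n = p * p ^ 2 ^ n := hw
    obtain rfl : p = 1 := hp
    rw [one_pow, one_mul] at hw'
    obtain ⟨y, hy⟩ := c.exists_a hF (c.b z * w / c.a x ^ 2 ^ n)
    refine ⟨y, c.ext (by rw [(c.mem_center_iff hF).1 (hcomm x y), hz0]) ?_⟩
    have hq : ∀ t : F, (t ^ 2 ^ n) ^ 2 ^ n = t := fun t => by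
      rw [← pow_mul, ← sq, ← hF]; exact FiniteField.pow_card t
    rw [hbc, hy, div_pow, mul_pow, hq, c.b_fixed hF hz0,
      mul_div_cancel₀ _ (pow_ne_zero _ ha), div_mul_cancel₀ _ ha, ← mul_add, hw', mul_one]
  refine ⟨⟨⟨fun x => (c.mem_center_iff hF).2 (c.a_sq hF x), fun x => by
      rw [c.sq_eq_one_iff hF, c.mem_center_iff hF], hcomm, ?_, ?_⟩, hfull, ?_⟩, hcen⟩
  · intro z hz
    obtain ⟨x, hx⟩ := c.exists_a hF (1 : F)
    have hxc : x ∉ Subgroup.center P := fun h => one_ne_zero (hx ▸ (c.mem_center_iff hF).1 h)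
    obtain ⟨y, rfl⟩ := hfull x hxc z hz
    rw [← commutatorElement_def, commutator_def]
    exact Subgroup.commutator_mem_commutator (Subgroup.mem_top x) (Subgroup.mem_top y)
  · obtain ⟨x, hx⟩ := c.exists_a hF (1 : F)
    have hxc : x ∉ Subgroup.center P := fun h => one_ne_zero (hx ▸ (c.mem_center_iff hF).1 h)
    by_contra hne
    push Not at hne
    exact hxc (Subgroup.mem_center_iff.2 fun y => hne y x)
  · rw [hcen, c.card_eq hF]
    have h4 : 2 ^ 2 ≤ 2 ^ n := Nat.pow_le_pow_right two_pos hn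
    calc 16 * 2 ^ n ≤ (2 ^ n * 2 ^ n) * 2 ^ n := Nat.mul_le_mul_right _ (Nat.mul_le_mul h4 h4)
      _ = (2 ^ n) ^ 3 := by ring

end U3

open Cfsg.Agent.Lib.CentralInt88 Cfsg.Agent.Lib.BenderConsumers23 in
/-- The Sylow 2-subgroups of a Bender group. -/
theorem kShape_of_target {X : Type u} [Group X] [Finite X] (h : Target X) (T : Sylow 2 X) :
    KShape ↥(T : Subgroup X) := by
  classical
  haveI : Fact (Nat.Prime 2) := ⟨Nat.prime_two⟩
  rcases h with ⟨F, _, _, n, hn, hF, ⟨e⟩⟩ | ⟨F, _, _, m, hm, hF, ⟨e⟩⟩ | ⟨F, _, _, n, hn, hF, ⟨e⟩⟩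
  · obtain ⟨h1, h2⟩ := sylow_linear hF e T
    have hall : ∀ x : ↥(T : Subgroup X), x * x = 1 := fun x => Subtype.ext (h1 x x.2)
    refine ⟨?_, Or.inl hall⟩
    have : Subgroup.center ↥(T : Subgroup X) = ⊤ :=
      (Subgroup.eq_top_iff' _).2 fun x => Subgroup.mem_center_iff.2 fun y => comm_of_forall_sq hall y x
    rw [this, Subgroup.card_top, h2]
    exact Nat.pow_le_pow_right two_pos hn
  · let f : T.mapSurjective (f := e.toMonoidHom) e.surjective = (T.mapSurjective e.surjective) := rfl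
    obtain ⟨c⟩ := Cfsg.Agent.Lib.SzSylow.exists_coords_Sz ⟨hF⟩ hm
      (T.mapSurjective (f := e.toMonoidHom) e.surjective)
    obtain ⟨-, -, h3⟩ := sylow_suzuki hm hF e T
    rw [← Subgroup.map_subtype_commutator,
      Subgroup.card_map_of_injective (T : Subgroup X).subtype_injective] at h3
    let c' := c.trans ((e.subgroupMap (T : Subgroup X)).trans
      (MulEquiv.subgroupCongr (Sylow.coe_mapSurjective _ T).symm))
    obtain ⟨h1, h2⟩ := sz_shape c' ⟨hF⟩ hm h3
    exact ⟨by rw [h2]; exact Nat.pow_le_pow_right two_pos (by omega : 2 ≤ 2 * m + 1), Or.inr (Or.inl h1)⟩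
  · obtain ⟨c⟩ := Cfsg.Agent.Lib.U3Sylow.exists_coords_PSU hF
      (T.mapSurjective (f := e.toMonoidHom) e.surjective)
    let c' := c.trans ((e.subgroupMap (T : Subgroup X)).trans
      (MulEquiv.subgroupCongr (Sylow.coe_mapSurjective _ T).symm))
    obtain ⟨h1, h2⟩ := u3_shape c' hn hF
    exact ⟨by rw [h2]; exact Nat.pow_le_pow_right two_pos hn, Or.inr (Or.inr h1)⟩

end Cfsg.Agent.Inter3185
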