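import Cfsg.Agent.Lib.Inter3185.Quot

/-!
# The rank-one set-up read inside the centraliser (helper88)
-/

set_option autoImplicit false
set_option linter.style.haveILetI false
set_option linter.unusedSectionVars false
set_option maxHeartbeats 1000000

namespace Cfsg.Agent.Inter3185

open MulAction Cfsg.Agent.Lib.Inv59.Basic
open Cfsg.Agent.Lib.BenderSuzuki Cfsg.Agent.Lib.BenderConsumers23 Cfsg.Agent.Lib.RankOne.Basic

universe u

variable {Q : Type u} [Group Q] [Finite Q]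

/-- An element of `S ∩ K` which is an involution modulo `Zk`. -/
structure InvImg (S : Sylow 2 Q) (w x : Q) : Prop where
  mem : x ∈ (S : Subgroup Q) ⊓ Kc w
  sq : x * x ∈ Zk (Kc w)
  ne : x ∉ Zk (Kc w)

/-- The torus: the elements of `K` normalising both `S` and its translate by `t`. -/
def Tor (S : Sylow 2 Q) (w t : Q) : Subgroup Q :=
  Kc w ⊓ NS S ⊓ (NS S).comap (MulAut.conj t⁻¹).toMonoidHom

theorem mem_tor {S : Sylow 2 Q} {w t k : Q} :
    k ∈ Tor S w t ↔ k ∈ Kc w ∧ k ∈ NS S ∧ t⁻¹ * k * t ∈ NS S := by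
  simp [Tor, Subgroup.mem_inf, and_assoc]

/-- The facts of the set-up. -/
structure Frame (S : Sylow 2 Q) (w t : Q) : Prop where
  tK : t ∈ Kc w
  tN : t ∉ NS S
  dec : ∀ k ∈ Kc w, k ∉ NS S → ∃ x ∈ (S : Subgroup Q) ⊓ Kc w, (x * t)⁻¹ * k ∈ NS S
  trans : ∀ x y, InvImg S w x → InvImg S w y →
    ∃ k ∈ Tor S w t, (k * x * k⁻¹)⁻¹ * y ∈ Zk (Kc w)
  abel : ∀ k ∈ Tor S w t, ∀ k' ∈ Tor S w t, ∀ x, InvImg S w x →
    (k * k' * x * (k * k')⁻¹)⁻¹ * (k' * k * x * (k' * k)⁻¹) ∈ Zk (Kc w)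

theorem setup_comm {G Ω : Type*} [Group G] [MulAction G Ω] [Finite G] {a : Ω} {t : G}
    {P : Subgroup G} (hS : Cfsg.IsRankOneSetup G Ω a t P)
    (hcent : ∀ d ∈ twoStab G a t, t * d * t⁻¹ = d → ∀ s ∈ invs G a, d * s * d⁻¹ = s)
    {d e : G} (hd : d ∈ twoStab G a t) (he : e ∈ twoStab G a t) {s : G} (hs : s ∈ invs G a) :
    d * e * s * (d * e)⁻¹ = e * d * s * (e * d)⁻¹ := by
  -- `Fix` = the elements of the two-point stabiliser fixing every involution of the stabiliser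
  have hconj : ∀ g, g • a = a → ∀ r ∈ invs G a, g * r * g⁻¹ ∈ invs G a := by
    intro g hg r hr
    refine ⟨?_, fun h => hr.2.1 (conj_eq_one_iff.1 h), ?_⟩
    · have h1 : r • a = a := hr.1
      have h2 : g⁻¹ • a = a := inv_smul_eq_iff.2 hg.symm
      show (g * r * g⁻¹) • a = a
      rw [mul_smul, mul_smul, h2, h1, hg]
    · rw [show g * r * g⁻¹ * (g * r * g⁻¹) = g * (r * r) * g⁻¹ by group, hr.2.2, mul_one,
        mul_inv_cancel]
  let Fix : G → Prop := fun g => ∀ r ∈ invs G a, g * r * g⁻¹ = r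
  have hinvert : ∀ x ∈ twoStab G a t, Fix (x * (t * x * t⁻¹)) := by
    intro x hx r hr
    obtain ⟨c, hc, k, hk, hct, rfl⟩ := exists_CK hS hx
    have hck : t * (c * k) * t⁻¹ = c * k⁻¹ := by
      rw [show t * (c * k) * t⁻¹ = t * c * t⁻¹ * (t * k * t⁻¹) by group, hct, hk.2]
    rw [hck]
    have hr' : c * r * c⁻¹ = r := hcent c hc hct r hr
    have h1 : k⁻¹ * r * k⁻¹⁻¹ ∈ invs G a := hconj _ ((twoStab G a t).inv_mem hk.1).1 r hr
    calc c * k * (c * k⁻¹) * r * (c * k * (c * k⁻¹))⁻¹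
        = c * (k * (c * (k⁻¹ * r * k⁻¹⁻¹) * c⁻¹) * k⁻¹) * c⁻¹ := by group
      _ = c * (k * (k⁻¹ * r * k⁻¹⁻¹) * k⁻¹) * c⁻¹ := by rw [hcent c hc hct _ h1]
      _ = c * r * c⁻¹ := by group
      _ = r := hr'
  -- the involutory automorphism inverts modulo `Fix`, so the quotient is commutative
  have hσ : ∀ x ∈ twoStab G a t, ∀ r ∈ invs G a,
      t * x * t⁻¹ * r * (t * x * t⁻¹)⁻¹ = x⁻¹ * r * x := by
    intro x hx r hr
    have h1 := hinvert x hx r hr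
    calc t * x * t⁻¹ * r * (t * x * t⁻¹)⁻¹
        = x⁻¹ * (x * (t * x * t⁻¹) * r * (x * (t * x * t⁻¹))⁻¹) * x := by group
      _ = x⁻¹ * r * x := by rw [h1]
  set σ := fun x => t * x * t⁻¹ with hσdef
  have he' : σ e ∈ twoStab G a t := t_conj_mem' hS he
  have hd' : σ d ∈ twoStab G a t := t_conj_mem' hS hd
  have h2 := hσ (d * e) ((twoStab G a t).mul_mem hd he)
  -- evaluate at `r = (e d) s (e d)⁻¹`
  have hr : e * d * s * (e * d)⁻¹ ∈ invs G a :=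
    hconj _ ((twoStab G a t).mul_mem he hd).1 s hs
  have h3 := h2 _ hr
  have h4 : t * (d * e) * t⁻¹ * (e * d * s * (e * d)⁻¹) * (t * (d * e) * t⁻¹)⁻¹ = s := by
    have hm : d * s * d⁻¹ ∈ invs G a := hconj d hd.1 s hs
    have hr2 : e * d * s * (e * d)⁻¹ = e * (d * s * d⁻¹) * e⁻¹ := by group
    rw [hr2, show t * (d * e) * t⁻¹ * (e * (d * s * d⁻¹) * e⁻¹) * (t * (d * e) * t⁻¹)⁻¹ =
      σ d * (σ e * (e * (d * s * d⁻¹) * e⁻¹) * (σ e)⁻¹) * (σ d)⁻¹ by simp only [hσdef]; group]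
    rw [hσ e he _ (hconj e he.1 _ hm),
      show e⁻¹ * (e * (d * s * d⁻¹) * e⁻¹) * e = d * s * d⁻¹ by group, hσ d hd _ hm]
    group
  rw [h4] at h3
  calc d * e * s * (d * e)⁻¹
      = d * e * ((d * e)⁻¹ * (e * d * s * (e * d)⁻¹) * (d * e)) * (d * e)⁻¹ := by rw [← h3]
    _ = e * d * s * (e * d)⁻¹ := by group

namespace Loc

variable {S : Sylow 2 Q} {v w : Q} (h : Loc S v) (hw : Pick S v w)
variable {t : ↥(Kb w)} {P : Subgroup ↥(Kb w)} (hB : BData S w t P)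
include h hw hB

local notation "π" => QuotientGroup.mk' (Zk (Kc w))
set_option quotPrecheck false in
local notation "pt" => (((1 : ↥(Kb w)) : ↥(Kb w) ⧸ Hb S w))

theorem mem_stab {d : ↥(Kb w)} : d ∈ stabilizer ↥(Kb w) pt ↔ d ∈ Hb S w := by
  rw [stabilizer_quotient]

/-- The regular subgroup is the image of `S ∩ K`. -/
theorem mem_P {d : ↥(Kb w)} : d ∈ P ↔ ∃ x ∈ (S : Subgroup Q) ⊓ Kc w, π x = d := by
  constructor
  · intro hd
    obtain ⟨y, k, hk, rfl⟩ := d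
    obtain ⟨i, hi⟩ := hB.pgroup ⟨_, hd⟩
    have hkN : k ∈ NS S :=
      (h.mem_Hb hw (Subgroup.mem_map_of_mem _ hk)).1 ((h.mem_stab hw hB).1 (hB.setup.le hd))
    have h1 : π (k ^ 2 ^ i) = 1 := by
      rw [map_pow]
      exact congrArg Subtype.val (congrArg Subtype.val hi)
    obtain ⟨j, hj⟩ := exists_pow_two S (h.zk_le hw ((QuotientGroup.eq_one_iff _).1 h1))
    refine ⟨k, ⟨mem_sylow_of_normalizer S (i + j) ?_ hkN, hk⟩, rfl⟩
    rw [pow_add, pow_mul]; exact hj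
  · rintro ⟨x, hx, hxd⟩
    obtain ⟨i, hi⟩ := exists_pow_two S hx.1
    have hdH : d ∈ stabilizer ↥(Kb w) pt :=
      (h.mem_stab hw hB).2 (Subgroup.mem_subgroupOf.2 ⟨x, Subgroup.le_normalizer hx.1, hxd⟩)
    obtain ⟨q, hq, e, he, rfl⟩ := exists_Q_D hB.setup hdH
    -- the component in the two-point stabiliser is a 2-element of a group of odd order
    haveI : (P.subgroupOf (stabilizer ↥(Kb w) pt)).Normal := ⟨fun z hz g =>
      hB.setup.conj_mem g g.2 z hz⟩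
    set eb : ↥(stabilizer ↥(Kb w) pt) ⧸ P.subgroupOf (stabilizer ↥(Kb w) pt) :=
      QuotientGroup.mk (⟨e, he.1⟩ : ↥(stabilizer ↥(Kb w) pt)) with heb
    have hd2 : eb ^ 2 ^ i = 1 := by
      have e1 : ((⟨q * e, hdH⟩ : ↥(stabilizer ↥(Kb w) pt)) :
          ↥(stabilizer ↥(Kb w) pt) ⧸ P.subgroupOf (stabilizer ↥(Kb w) pt)) = eb := by
        rw [heb, QuotientGroup.eq]
        show ((q * e)⁻¹ * e) ∈ P
        rw [show (q * e)⁻¹ * e = e⁻¹ * q⁻¹ * e by group]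
        exact twoStab_norm' hB.setup he (inv_mem hq)
      rw [← e1, ← QuotientGroup.mk_pow, QuotientGroup.eq_one_iff]
      show ((q * e) ^ 2 ^ i) ∈ P
      rw [show (q * e) ^ 2 ^ i = 1 from Subtype.ext (by
        rw [SubmonoidClass.coe_pow, ← hxd, ← map_pow, hi, map_one]; rfl)]
      exact one_mem _
    have ho : eb ^ Nat.card ↥(twoStab ↥(Kb w) pt t) = 1 := by
      rw [heb, ← QuotientGroup.mk_pow, QuotientGroup.eq_one_iff]
      show e ^ _ ∈ P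
      rw [show e ^ Nat.card ↥(twoStab ↥(Kb w) pt t) = 1 from
        congrArg Subtype.val (pow_card_eq_one' (x := (⟨e, he⟩ : ↥(twoStab ↥(Kb w) pt t))))]
      exact one_mem _
    have he1 : eb = 1 := orderOf_eq_one_iff.1 (Nat.eq_one_of_dvd_coprimes
      ((Nat.coprime_two_left.2 hB.setup.odd_card).pow_left i) (orderOf_dvd_of_pow_eq_one hd2)
      (orderOf_dvd_of_pow_eq_one ho))
    rw [heb] at he1
    exact mul_mem hq ((QuotientGroup.eq_one_iff (N := P.subgroupOf (stabilizer ↥(Kb w) pt))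
      (⟨e, he.1⟩ : ↥(stabilizer ↥(Kb w) pt))).1 he1)

theorem invImg_invs {x : Q} (hx : InvImg S w x) :
    (⟨π x, Subgroup.mem_map_of_mem _ hx.mem.2⟩ : ↥(Kb w)) ∈ invs ↥(Kb w) pt := by
  refine ⟨(h.mem_stab hw hB).2 ((h.mem_Hb hw _).2 (Subgroup.le_normalizer hx.mem.1)), fun e => ?_, ?_⟩
  · exact hx.ne ((QuotientGroup.eq_one_iff _).1 (congrArg Subtype.val e))
  · refine Subtype.ext ?_
    show π x * π x = 1
    rw [← map_mul]
    exact (QuotientGroup.eq_one_iff _).2 hx.sq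

theorem tor_twoStab {t₀ : Q} (ht : π t₀ = t) {k : Q} (hk : k ∈ Kc w) :
    (⟨π k, Subgroup.mem_map_of_mem _ hk⟩ : ↥(Kb w)) ∈ twoStab ↥(Kb w) pt t ↔
      k ∈ Tor S w t₀ := by
  have hh : ∀ d : ↥(Kb w), d • (t • pt) = t • pt ↔ t⁻¹ * d * t ∈ Hb S w := by
    intro d
    rw [← h.mem_stab hw hB, mem_stabilizer_iff, mul_smul, mul_smul, inv_smul_eq_iff]
  rw [mem_twoStab, mem_tor, hh, ← mem_stabilizer_iff, h.mem_stab hw hB,
    h.mem_Hb hw (Subgroup.mem_map_of_mem _ hk)]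
  have h2 : (t⁻¹ * (⟨π k, Subgroup.mem_map_of_mem _ hk⟩ : ↥(Kb w)) * t) ∈ Hb S w ↔
      t₀⁻¹ * k * t₀ ∈ NS S := by
    rw [Subgroup.mem_subgroupOf]
    show (t : Q ⧸ Zk (Kc w))⁻¹ * π k * t ∈ (NS S).map π ↔ _
    rw [← ht, ← map_inv, ← map_mul, ← map_mul]
    exact ⟨h.mem_NS_of_map hw, Subgroup.mem_map_of_mem _⟩
  tauto

/-- The set-up gives the frame. -/
theorem frame : ∃ t₀ : Q, Frame S w t₀ := by
  obtain ⟨t₀, ht₀K, ht₀⟩ := id t.2
  have htN : t₀ ∉ NS S := fun hh => hB.setup.not_mem ((h.mem_stab hw hB).2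
    (Subgroup.mem_subgroupOf.2 ⟨t₀, hh, ht₀⟩))
  refine ⟨t₀, ht₀K, htN, fun k hk hkN => ?_, fun x y hx hy => ?_, fun k hk k' hk' x hx => ?_⟩
  · set kb : ↥(Kb w) := ⟨π k, Subgroup.mem_map_of_mem _ hk⟩
    have hne : kb • pt ≠ pt := fun e =>
      hkN ((h.mem_Hb hw _).1 ((h.mem_stab hw hB).1 (mem_stabilizer_iff.2 e)))
    obtain ⟨q, hq, hqe⟩ := Q_trans hB.setup (t_smul_ne hB.setup) hne
    obtain ⟨x, hx, hxq⟩ := (h.mem_P hw hB).1 hq
    refine ⟨x, hx, h.mem_NS_of_map hw ?_⟩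
    have h1 : (q * t)⁻¹ * kb ∈ Hb S w := by
      rw [← h.mem_stab hw hB, mem_stabilizer_iff, mul_smul, inv_smul_eq_iff, mul_smul, hqe]
    rw [map_mul, map_inv, map_mul, hxq, ht₀]
    exact h1
  · obtain ⟨d, ⟨hdk, hde⟩, -⟩ := existsUnique_K hB.setup (h.invImg_invs hw hB hx)
      (h.invImg_invs hw hB hy)
    obtain ⟨k, hk, hkd⟩ := id d.2
    refine ⟨k, (h.tor_twoStab hw hB ht₀ hk).1 ?_, ?_⟩
    · rw [show (⟨π k, Subgroup.mem_map_of_mem _ hk⟩ : ↥(Kb w)) = d from Subtype.ext hkd]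
      exact hdk.1
    · refine QuotientGroup.eq.1 ?_
      show π (k * x * k⁻¹) = π y
      rw [map_mul, map_mul, map_inv, hkd]
      exact congrArg Subtype.val hde
  · have h1 := setup_comm hB.setup hB.cent ((h.tor_twoStab hw hB ht₀ (mem_tor.1 hk).1).2 hk)
      ((h.tor_twoStab hw hB ht₀ (mem_tor.1 hk').1).2 hk') (h.invImg_invs hw hB hx)
    refine QuotientGroup.eq.1 ?_
    show π (k * k' * x * (k * k')⁻¹) = π (k' * k * x * (k' * k)⁻¹)
    simp only [map_mul, map_inv]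
    exact congrArg Subtype.val h1

end Loc

end Cfsg.Agent.Inter3185
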