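import Cfsg.Agent.Lib.Inter3185.Master
import Cfsg.Agent.Lib.Inter3185.Basic
import Cfsg.Agent.Lib.CentralInt88.OddAction

/-!
# The generic case ends with a strongly embedded subgroup (helper88)
-/

set_option autoImplicit false
set_option linter.style.haveILetI false
set_option linter.unusedSectionVars false

namespace Cfsg.Agent.Inter3185

open Cfsg.Agent.Lib.Inv59.Basic Cfsg.Agent.Lib.Crit59
open Cfsg.Agent.Lib.BenderSuzuki Cfsg.Agent.Lib.BenderConsumers23

universe u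

variable {G : Type u} [Group G] [Finite G]

/-- The odd core of `C(v)`. -/
abbrev OC (v : G) : Subgroup G :=
  (Cfsg.oddCore ↥(Subgroup.centralizer ({v} : Set G))).map
    (Subgroup.centralizer ({v} : Set G)).subtype

/-- All involutions of `S` lie in one central four-group. -/
def OnlyFour (S : Sylow 2 G) : Prop :=
  ∃ v u : G, Cen S v ∧ Cen S u ∧ v ≠ 1 ∧ u ≠ 1 ∧ u ≠ v ∧
    ∀ x ∈ (S : Subgroup G), x * x = 1 → x = 1 ∨ x = v ∨ x = u ∨ x = v * u

variable [IsSimpleGroup G]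

namespace Base

variable {S : Sylow 2 G} (h : Base S)
include h

/-- `C(v) = O(C(v)) (N(S) ∩ C(v))`. -/
theorem centralizer_split (hcrit : CritFaithful.{u}) (hP : PropPartOne.{u})
    (hMain : PropMain.{u, u}) {v : G} (hv : Cen S v) (hv1 : v ≠ 1) :
    Subgroup.centralizer ({v} : Set G) ≤
      OC v ⊔ (Nrm S ⊓ Subgroup.centralizer ({v} : Set G)) := by
  classical
  haveI : Fact (Nat.Prime 2) := ⟨Nat.prime_two⟩
  set C := Subgroup.centralizer ({v} : Set G) with hCdef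
  set O := Cfsg.oddCore ↥C with hOdef
  haveI hOn : O.Normal := by rw [hOdef]; unfold Cfsg.oddCore; infer_instance
  have hSC : (S : Subgroup G) ≤ C := fun s hs =>
    Subgroup.mem_centralizer_singleton_iff.2 (hv.comm s hs)
  set π := QuotientGroup.mk' O with hπ
  set SC : Sylow 2 ↥C := S.subtype hSC with hSCdef
  set SQ : Sylow 2 (↥C ⧸ O) := SC.mapSurjective (QuotientGroup.mk'_surjective O) with hSQ
  have hmemSC : ∀ c : ↥C, c ∈ (SC : Subgroup ↥C) ↔ (c : G) ∈ (S : Subgroup G) := fun c => Iff.rfl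
  have hmemSQ : ∀ q, q ∈ (SQ : Subgroup (↥C ⧸ O)) ↔ ∃ c : ↥C, (c : G) ∈ (S : Subgroup G) ∧ π c = q :=
    fun q => by
      rw [hSQ, Sylow.coe_mapSurjective]
      exact ⟨fun ⟨c, hc, e⟩ => ⟨c, (hmemSC c).1 hc, e⟩, fun ⟨c, hc, e⟩ => ⟨c, (hmemSC c).2 hc, e⟩⟩
  -- `π` is injective on `S`
  have hSO : ∀ c : ↥C, (c : G) ∈ (S : Subgroup G) → c ∈ O → c = 1 := fun c hc hcO => by
    obtain ⟨k, hk⟩ := SC.isPGroup' ⟨c, (hmemSC c).2 hc⟩
    refine orderOf_eq_one_iff.1 (Nat.eq_one_of_dvd_coprimes ((Nat.coprime_two_left.2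
      Cfsg.Agent.Lib.ZStar.Elements.oddCore_odd).pow_left k)
      (orderOf_dvd_of_pow_eq_one (congrArg Subtype.val hk)) (Subgroup.orderOf_dvd_natCard O hcO))
  let φ : ↥(S : Subgroup G) →* ↥(SQ : Subgroup (↥C ⧸ O)) :=
    MonoidHom.mk' (fun s => ⟨π ⟨s, hSC s.2⟩, (hmemSQ _).2 ⟨_, s.2, rfl⟩⟩) fun a b =>
      Subtype.ext (map_mul π ⟨(a : G), hSC a.2⟩ ⟨(b : G), hSC b.2⟩)
  have hφ : Function.Bijective φ := by
    refine ⟨?_, fun q => ?_⟩
    · rw [← MonoidHom.ker_eq_bot_iff, Subgroup.eq_bot_iff_forall]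
      intro s hs
      exact Subtype.ext (congrArg Subtype.val (hSO ⟨s, hSC s.2⟩ s.2
        ((QuotientGroup.eq_one_iff _).1 (congrArg Subtype.val hs))) :)
    · obtain ⟨c, hc, e⟩ := (hmemSQ _).1 q.2
      exact ⟨⟨c, hc⟩, Subtype.ext e⟩
  set e := MulEquiv.ofBijective φ hφ
  -- normalising modulo the core is normalising up to the core
  have hnorm : ∀ c : ↥C, π c ∈ Subgroup.normalizer ((SQ : Subgroup (↥C ⧸ O)) : Set (↥C ⧸ O)) →
      (c : G) ∈ OC v ⊔ (Nrm S ⊓ C) := by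
    intro c hc
    set X : Subgroup G := OC v ⊔ (S : Subgroup G) with hX
    have hmemX : ∀ d : ↥C, π d ∈ (SQ : Subgroup (↥C ⧸ O)) → (d : G) ∈ X := fun d hd => by
      obtain ⟨s, hs, he⟩ := (hmemSQ _).1 hd
      have h1 : s⁻¹ * d ∈ O := QuotientGroup.eq.1 he
      have h2 : ((s⁻¹ * d : ↥C) : G) ∈ OC v := ⟨_, h1, rfl⟩
      have := mul_mem (Subgroup.mem_sup_right (S := OC v) hs) (Subgroup.mem_sup_left (T := (S : Subgroup G)) h2)
      simpa using this
    obtain ⟨g, hg, hgS⟩ := exists_conj_mem_sylow S X ((S : Subgroup G).map (MulAut.conj (c : G)).toMonoidHom)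
      le_sup_right (S.isPGroup'.map _) (by
        rintro _ ⟨s, hs, rfl⟩
        exact hmemX (c * ⟨s, hSC hs⟩ * c⁻¹) (by
          rw [map_mul, map_mul, map_inv]
          exact (Subgroup.mem_normalizer_iff.1 hc _).1 ((hmemSQ _).2 ⟨_, hs, rfl⟩)))
    have hn : g * (c : G) ∈ Nrm S := mem_normalizer_of_conj_mem _ fun s hs => by
      have := hgS _ ⟨s, hs, rfl⟩
      change g * ((c : G) * s * (c : G)⁻¹) * g⁻¹ ∈ (S : Subgroup G) at this
      rwa [show g * ((c : G) * s * (c : G)⁻¹) * g⁻¹ = g * c * s * (g * c)⁻¹ by group] at this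
    have hXle : X ≤ OC v ⊔ (Nrm S ⊓ C) := sup_le_sup_left (le_inf Subgroup.le_normalizer hSC) _
    have hgC : g ∈ C := (sup_le (Subgroup.map_subtype_le _) hSC) hg
    have := mul_mem (inv_mem (hXle hg))
      (Subgroup.mem_sup_right (S := OC v) (show g * (c : G) ∈ Nrm S ⊓ C from ⟨hn, mul_mem hgC c.2⟩))
    rwa [inv_mul_cancel_left] at this
  have hsq : ∀ x : G, x * x = 1 → ∀ hx : x ∈ C, π ⟨x, hx⟩ * π ⟨x, hx⟩ = 1 := fun x hx2 hx => by
    rw [← map_mul, show (⟨x, hx⟩ : ↥C) * ⟨x, hx⟩ = 1 from Subtype.ext hx2, map_one]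
  set vC : ↥C := ⟨v, Subgroup.mem_centralizer_singleton_iff.2 rfl⟩
  have hvne : π vC ≠ 1 := fun e1 => hv1 (congrArg Subtype.val
    (hSO vC hv.mem ((QuotientGroup.eq_one_iff _).1 e1)))
  have hloc : Loc SQ (π vC) := by
    refine ⟨le_bot_iff.1 (le_of_eq (Cfsg.Agent.Lib.ZStar.Elements.quotient_oddCore _ ?_ ?_)),
      orderOf_eq_prime (by rw [pow_two]; exact hsq v hv.sq _) hvne, ?_, ?_⟩
    · unfold Cfsg.oddCore; infer_instance
    · exact Cfsg.Agent.Lib.ZStar.Elements.oddCore_odd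
    · refine Subgroup.mem_center_iff.2 fun q => ?_
      obtain ⟨c, rfl⟩ := QuotientGroup.mk'_surjective O q
      rw [← map_mul, ← map_mul,
        show c * vC = vC * c from Subtype.ext (Subgroup.mem_centralizer_singleton_iff.1 c.2)]
    · intro T x hxS hxT hx2 hx1 hxv
      obtain ⟨s, hs, rfl⟩ := (hmemSQ x).1 hxS
      obtain ⟨q, hq⟩ := MulAction.exists_smul_eq (↥C ⧸ O) SQ T
      obtain ⟨c, rfl⟩ := QuotientGroup.mk'_surjective O q
      subst hq
      rw [Sylow.coe_subgroup_smul, Subgroup.mem_pointwise_smul_iff_inv_smul_mem] at hxT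
      have hxT' : π (c⁻¹ * s * c) ∈ (SQ : Subgroup (↥C ⧸ O)) := by
        rw [map_mul, map_mul, map_inv]
        simpa [MulAut.smul_def, hπ] using hxT
      have hs2 : s * s = 1 := hSO (s * s) (mul_mem hs hs)
        ((QuotientGroup.eq_one_iff _).1 (by rw [← hx2, ← map_mul]; rfl))
      have hsG : (s : G) * s = 1 := congrArg Subtype.val hs2
      have hs1 : (s : G) ≠ 1 := fun e1 => hx1 (by rw [show s = 1 from Subtype.ext e1, map_one])
      have hsv : (s : G) ≠ v := fun e1 => hxv (by rw [show s = vC from Subtype.ext e1])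
      obtain ⟨d, hd, hdO⟩ := (hmemSQ _).1 hxT'
      set y := c⁻¹ * s * c with hy
      set X : Subgroup ↥C := (SC : Subgroup ↥C) ⊔ O with hX
      have hyX : y ∈ X := by
        have h1 : d⁻¹ * y ∈ O := QuotientGroup.eq.1 hdO
        have := mul_mem (Subgroup.mem_sup_left (T := O) ((hmemSC d).2 hd))
          (Subgroup.mem_sup_right (S := (SC : Subgroup ↥C)) h1)
        rwa [mul_inv_cancel_left] at this
      have hy2 : y * y = 1 := by
        rw [hy, show c⁻¹ * s * c * (c⁻¹ * s * c) = c⁻¹ * (s * s) * c by group, hs2, mul_one,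
          inv_mul_cancel]
      have hp : IsPGroup 2 (Subgroup.zpowers y) := by
        obtain ⟨i, -, hi⟩ := (Nat.dvd_prime_pow Nat.prime_two).1
          (orderOf_dvd_of_pow_eq_one (show y ^ 2 ^ 1 = 1 by rw [pow_one, pow_two, hy2]))
        exact IsPGroup.of_card (n := i) (by rw [Nat.card_zpowers, hi])
      obtain ⟨g, hg, hgy⟩ := exists_conj_mem_sylow SC X (Subgroup.zpowers y) le_sup_left hp
        (Subgroup.zpowers_le.2 hyX)
      set n := g * c⁻¹ with hn
      have hnN : (n : G) ∈ Nrm S := by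
        refine h.mem_Nrm_of_four hv hv1 hs hsG hs1 hsv ?_ ?_
        · have h1 := (hmemSC _).1 (hgy y (Subgroup.mem_zpowers y))
          rw [show g * y * g⁻¹ = n * s * n⁻¹ by rw [hn, hy]; group] at h1
          exact h1
        · rw [Subgroup.mem_centralizer_singleton_iff.1 n.2, mul_inv_cancel_right]
          exact hv.mem
      have hnQ : π n ∈ Subgroup.normalizer ((SQ : Subgroup (↥C ⧸ O)) : Set (↥C ⧸ O)) := by
        refine mem_normalizer_of_conj_mem _ fun q hq => ?_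
        obtain ⟨a, ha, rfl⟩ := (hmemSQ _).1 hq
        exact (hmemSQ _).2 ⟨n * a * n⁻¹, (Subgroup.mem_normalizer_iff.1 hnN (a : G)).1 ha,
          by rw [map_mul, map_mul, map_inv]⟩
      have hgQ : π g ∈ (SQ : Subgroup (↥C ⧸ O)) := by
        have hle : X ≤ (SQ : Subgroup (↥C ⧸ O)).comap π := sup_le
          (fun a ha => (hmemSQ _).2 ⟨a, (hmemSC a).1 ha, rfl⟩)
          (fun a ha => by
            show π a ∈ (SQ : Subgroup (↥C ⧸ O))
            rw [show π a = 1 from (QuotientGroup.eq_one_iff a).2 ha]; exact one_mem _)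
        exact hle hg
      refine Sylow.smul_eq_iff_mem_normalizer.2 ?_
      rw [show π c = (π n)⁻¹ * π g by rw [hn, map_mul, map_inv]; group]
      exact mul_mem (inv_mem hnQ) (Subgroup.le_normalizer hgQ)
  obtain ⟨u, hu, hu1, huv⟩ := h.exists_other hv hv1
  have hgood : Good1 SQ (π vC) (π ⟨u, hSC hu.mem⟩) := by
    refine ⟨(hmemSQ _).2 ⟨_, hu.mem, rfl⟩, fun q hq => ?_, hsq u hu.sq _, fun e1 => hu1 ?_,
      fun e1 => huv ?_⟩
    · obtain ⟨c, hc, rfl⟩ := (hmemSQ _).1 hq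
      rw [← map_mul, ← map_mul, show c * ⟨u, hSC hu.mem⟩ = ⟨u, hSC hu.mem⟩ * c from
        Subtype.ext (hu.comm c hc)]
    · exact congrArg Subtype.val (hSO _ hu.mem ((QuotientGroup.eq_one_iff _).1 e1))
    · have h1 : (vC⁻¹ * ⟨u, hSC hu.mem⟩ : ↥C) = 1 := hSO _ (mul_mem (inv_mem hv.mem) hu.mem)
        (QuotientGroup.eq.1 e1.symm)
      exact (inv_mul_eq_one.1 (congrArg Subtype.val h1)).symm
  have hnab : ∃ a b : ↥(SQ : Subgroup (↥C ⧸ O)), a * b ≠ b * a := by
    obtain ⟨a, b, hab⟩ := h.nab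
    exact ⟨e a, e b, by rw [← map_mul, ← map_mul, e.injective.ne_iff]; exact hab⟩
  set Γ := ((S : Subgroup G).normalizerMonoidHom.range).map (MulAut.congr e).toMonoidHom with hΓdef
  have hΓ : Moves Γ := by
    have hV : ∀ x, IsV x → IsV (e x) := fun x hx => by
      refine ⟨Subgroup.mem_center_iff.2 fun g => ?_, by rw [← map_mul, hx.2, map_one]⟩
      obtain ⟨g, rfl⟩ := e.surjective g
      rw [← map_mul, ← map_mul, Subgroup.mem_center_iff.1 hx.1 g]
    have hV' : ∀ x, IsV (e x) → IsV x := fun x hx => by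
      refine ⟨Subgroup.mem_center_iff.2 fun g => e.injective ?_, e.injective ?_⟩
      · rw [map_mul, map_mul, Subgroup.mem_center_iff.1 hx.1 (e g)]
      · rw [map_mul, hx.2, map_one]
    refine ⟨fun y hy => ?_, fun y hy hy1 => ?_⟩
    · obtain ⟨x, rfl⟩ := e.surjective y
      refine (Nat.card_congr ?_) ▸ (Base.moves h).odd x (hV' x hy)
      refine e.toEquiv.subtypeEquiv fun z => ?_
      constructor
      · rintro ⟨⟨α, hα⟩, rfl⟩
        exact ⟨⟨_, ⟨α, hα, rfl⟩⟩, by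
          show e (α (e.symm (e x))) = e (α x)
          rw [e.symm_apply_apply]⟩
      · rintro ⟨⟨_, α, hα, rfl⟩, hz⟩
        have h1 : e (α (e.symm (e x))) = e z := hz
        rw [e.symm_apply_apply] at h1
        exact ⟨⟨α, hα⟩, e.injective h1⟩
    · obtain ⟨x, rfl⟩ := e.surjective y
      obtain ⟨α, hα, hαx⟩ := (Base.moves h).move x (hV' x hy) fun e1 => hy1 (by rw [e1, map_one])
      refine ⟨_, ⟨α, hα, rfl⟩, fun e1 => hαx (e.injective ?_)⟩
      have h1 : e (α (e.symm (e x))) = e x := e1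
      rwa [e.symm_apply_apply] at h1
  have hnormal := hloc.normal_of_moves hcrit hP hMain hgood hnab Γ hΓ
  intro c hc
  exact hnorm ⟨c, hc⟩ (Subgroup.normalizer_eq_top_iff.2 hnormal ▸ Subgroup.mem_top _)

/-- Two commuting involutions away from `v` put the core into `N(S)`. -/
theorem core_le {v : G} (hv : Cen S v) (hv1 : v ≠ 1) {a b : G} (ha : a ∈ (S : Subgroup G))
    (hb : b ∈ (S : Subgroup G)) (ha2 : a * a = 1) (hb2 : b * b = 1) (hab : a * b = b * a)
    (ha1 : a ≠ 1) (hb1 : b ≠ 1) (hab1 : a * b ≠ 1) (hav : a ≠ v) (hbv : b ≠ v) (habv : a * b ≠ v) :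
    OC v ≤ Nrm S := by
  classical
  haveI hOn : (Cfsg.oddCore ↥(Subgroup.centralizer ({v} : Set G))).Normal := by
    unfold Cfsg.oddCore; infer_instance
  set O := OC v with hO
  have hOC : O ≤ Subgroup.centralizer ({v} : Set G) := Subgroup.map_subtype_le _
  have hnorm : ∀ g ∈ (S : Subgroup G), g ∈ Subgroup.normalizer (O : Set G) := by
    intro g hg
    refine mem_normalizer_of_conj_mem _ ?_
    rintro _ ⟨o, ho, rfl⟩
    exact ⟨⟨g, Subgroup.mem_centralizer_singleton_iff.2 (hv.comm g hg)⟩ * o *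
      (⟨g, Subgroup.mem_centralizer_singleton_iff.2 (hv.comm g hg)⟩ :
        ↥(Subgroup.centralizer ({v} : Set G)))⁻¹, hOn.conj_mem o ho _, rfl⟩
  have hodd : Odd (Nat.card ↥O) := by
    rw [hO, Subgroup.card_map_of_injective (Subgroup.centralizer ({v} : Set G)).subtype_injective]
    exact Cfsg.Agent.Lib.ZStar.Elements.oddCore_odd
  set φ := O.normalizerMonoidHom
  set an : ↥(Subgroup.normalizer (O : Set G)) := ⟨a, hnorm a ha⟩
  set bn : ↥(Subgroup.normalizer (O : Set G)) := ⟨b, hnorm b hb⟩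
  have hfix : ∀ d ∈ (S : Subgroup G), d * d = 1 → d ≠ 1 → d ≠ v → ∀ hd : d ∈ Subgroup.normalizer (O : Set G),
      ∀ p : ↥O, φ ⟨d, hd⟩ p = p → p ∈ (Nrm S).subgroupOf O := by
    intro d hdS hd2 hd1 hdv hd p hp
    have h1 : d * (p : G) * d⁻¹ = p := congrArg Subtype.val hp
    exact h.centralizer_pair hv hv1 hdS hd2 hd1 hdv (mul_inv_eq_iff_eq_mul.1 h1).symm
      (Subgroup.mem_centralizer_singleton_iff.1 (hOC p.2))
  have key := Cfsg.Agent.Lib.CentralInt88.fixed_generate hodd (φ an) (φ bn)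
    (by rw [← map_mul, show an * an = 1 from Subtype.ext ha2, map_one])
    (by rw [← map_mul, show bn * bn = 1 from Subtype.ext hb2, map_one])
    (by rw [← map_mul, ← map_mul, show an * bn = bn * an from Subtype.ext hab])
    ((Nrm S).subgroupOf O) (hfix a ha ha2 ha1 hav _) (hfix b hb hb2 hb1 hbv _)
    (by
      rw [← map_mul]
      refine hfix (a * b) (mul_mem ha hb) ?_ hab1 habv (an * bn).2
      rw [mul_assoc, ← mul_assoc b, ← hab, mul_assoc a b b, hb2, mul_one, ha2])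
  exact Subgroup.subgroupOf_eq_top.1 key

/-- The dichotomy. -/
theorem families_or_four (hcrit : CritFaithful.{u}) (hP : PropPartOne.{u})
    (hMain : PropMain.{u, u}) : Families G ∨ OnlyFour S := by
  classical
  by_cases hfour : OnlyFour S
  · exact Or.inr hfour
  left
  have hle : ∀ v, Cen S v → v ≠ 1 → Subgroup.centralizer ({v} : Set G) ≤ Nrm S := by
    intro v hv hv1
    refine (h.centralizer_split hcrit hP hMain hv hv1).trans (sup_le ?_ inf_le_left)
    obtain ⟨u, hu, hu1, huv⟩ := h.exists_other hv hv1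
    obtain ⟨x, hx, hx2, hxn⟩ : ∃ x ∈ (S : Subgroup G), x * x = 1 ∧
        (x ≠ 1 ∧ x ≠ v ∧ x ≠ u ∧ x ≠ v * u) := by
      by_contra hne
      push Not at hne
      refine hfour ⟨v, u, hv, hu, hv1, hu1, huv, fun x hx hx2 => ?_⟩
      by_contra hcon
      push Not at hcon
      exact hcon.2.2.2 (hne x hx hx2 hcon.1 hcon.2.1 hcon.2.2.1)
    have hui : u⁻¹ = u := inv_eq_of_mul_eq_one_right hu.sq
    refine h.core_le hv hv1 hu.mem hx hu.sq hx2 (hu.comm x hx).symm hu1 hxn.1 ?_ huv hxn.2.1 ?_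
    · intro e
      exact hxn.2.2.1 ((eq_inv_of_mul_eq_one_right e).trans hui)
    · intro e
      refine hxn.2.2.2 ?_
      rw [hu.comm v hv.mem, ← e, ← mul_assoc, hu.sq, one_mul]
  obtain ⟨z, hz, hz1⟩ := h.exists_cen
  have hmem : ∀ a, Cen S a → a ∈ Nrm S := fun a ha => Subgroup.le_normalizer ha.mem
  have hM : Nrm S ≠ ⊤ := fun e => by
    have hn : (S : Subgroup G).Normal := Subgroup.normalizer_eq_top_iff.1 e
    rcases hn.eq_bot_or_eq_top with e1 | e1
    · exact hz1 (Subgroup.mem_bot.1 (e1 ▸ hz.mem))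
    · obtain ⟨a, b, hab⟩ := na_of h.na
      have hzc : z ∈ Subgroup.center G :=
        Subgroup.mem_center_iff.2 fun g => hz.comm g (e1 ▸ Subgroup.mem_top g)
      rcases Subgroup.Normal.eq_bot_or_eq_top (inferInstance : (Subgroup.center G).Normal) with e' | e'
      · exact hz1 (Subgroup.mem_bot.1 (e' ▸ hzc))
      · exact hab (Subgroup.mem_center_iff.1 (e' ▸ Subgroup.mem_top b) a)
  have hinv : ∀ g, g * z * g⁻¹ ∈ Nrm S → g * z * g⁻¹ ∈ (S : Subgroup G) := fun g hg =>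
    mem_sylow_of_normalizer S 1 (by
      rw [pow_one, pow_two, show g * z * g⁻¹ * (g * z * g⁻¹) = g * (z * z) * g⁻¹ by group, hz.sq,
        mul_one, mul_inv_cancel]) hg
  obtain ⟨H, hH⟩ := row1175 hcrit (Nrm S) hM (orderOf_eq_prime (by rw [pow_two, hz.sq]) hz1)
    (hmem z hz) ⟨S, hz.mem, fun s hs => hz.comm s hs⟩
    (fun g hg => by
      obtain ⟨n, hn, hnz⟩ := h.fusion hz hz1 (hinv g hg)
      have hc : n⁻¹ * g ∈ Subgroup.centralizer ({z} : Set G) :=
        Subgroup.mem_centralizer_singleton_iff.2 (by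
          calc n⁻¹ * g * z = n⁻¹ * (g * z * g⁻¹) * g := by group
            _ = n⁻¹ * (n * z * n⁻¹) * g := by rw [hnz]
            _ = z * (n⁻¹ * g) := by group)
      have := mul_mem hn (hle z hz hz1 hc)
      rwa [mul_inv_cancel_left] at this)
    (fun g hg hne => by
      have hx : g * z * g⁻¹ ∈ Nrm S :=
        hle z hz hz1 (Subgroup.mem_centralizer_singleton_iff.2 hg.eq.symm)
      obtain ⟨n, hn, hnz⟩ := h.fusion hz hz1 (hinv g hx)
      rw [← hnz]
      refine hle _ (hz.mul (hz.map hn)) fun e => hne ?_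
      rw [← hnz, eq_inv_of_mul_eq_one_right e, inv_eq_of_mul_eq_one_right hz.sq])
  obtain ⟨hT, -⟩ := simple_case hP hMain (na_of h.na) hH
  rcases hT with ⟨F, i, j, n, hn, hF, he⟩ | ⟨F, i, j, m, hm, hF, he⟩ | ⟨F, i, j, n, hn, hF, he⟩
  · exact Or.inl ⟨n, F, i, j, hn, hF, he⟩
  · exact Or.inr (Or.inl ⟨m, F, i, j, hm, hF, he⟩)
  · refine Or.inr (Or.inr (Or.inl ⟨n, F, i, j, hn, ?_, he⟩))
    rw [hF, ← pow_mul, mul_comm, pow_mul]; norm_num

end Base

end Cfsg.Agent.Inter3185
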