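import Cfsg.Agent.Lib.Inter3185.Abelian
import Cfsg.Agent.Lib.Inter3185.Strong
import Cfsg.Agent.Lib.Goldschmidt53.Interface
import Cfsg.Agent.Lib.PGroups.Omega
import Cfsg.Agent.Lib.BenderOne.Final
import Cfsg.Agent.Lib.BenderSuzuki.Main
import Cfsg.Agent.Lib.GorensteinWalter.Main
import Cfsg.Agent.Lib.Walter.Main
import Cfsg.Agent.Lib.Crit5.Top
import Cfsg.Agent.Lib.Crit8.Prod.KernelMain
import Cfsg.Agent.Lib.Crit59.Assembly

/-!
# The simple statement of S3185 from Goldschmidt's theorem (helper10)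

When all involutions of `S` lie in one central four-group, that four-group is strongly closed, so
Goldschmidt's theorem for simple groups gives the list.
-/

set_option autoImplicit false
set_option linter.style.haveILetI false

namespace Cfsg.Agent.Inter3185

open Subgroup


universe u

variable {G : Type u} [Group G] [Finite G]

/-- The members of the list of Goldschmidt's theorem with `VHyp` are on the list of S3185. -/
theorem families_of_known [IsSimpleGroup G] (hV : VHyp G)
    (h : Cfsg.Agent.Lib.Goldschmidt53.IsKnown G) : Families G := by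
  rcases h with (h | h | h) | h | h
  · obtain ⟨n, F, i, j, hn, hF, he⟩ := h
    exact Or.inl ⟨n, F, i, j, by omega, hF, he⟩
  · obtain ⟨F, i, j, hF, h5, ⟨e⟩⟩ := h
    rcases h5.eq_or_lt with h5 | h5
    · obtain ⟨K, i', j', hK, he⟩ := Cfsg.Agent.Lib.CITSuzuki.Lists.psl_two_five_to_four h5.symm e
      exact Or.inl ⟨2, K, i', j', le_rfl, by rw [hK]; norm_num, he⟩
    · exact Or.inr (Or.inr (Or.inr (Or.inl ⟨F, i, j, hF, h5, ⟨e⟩⟩)))
  · exact Or.inr (Or.inr (Or.inr (Or.inr (isJ1_of_isJR hV h))))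
  · obtain ⟨F, i, j, m, hm, hF, he⟩ := h
    exact Or.inr (Or.inl ⟨m, F, i, j, hm, hF, he⟩)
  · obtain ⟨F, i, j, n, hn, hF, he⟩ := h
    refine Or.inr (Or.inr (Or.inl ⟨n, F, i, j, hn, ?_, he⟩))
    rw [hF, ← pow_mul, mul_comm, pow_mul]; norm_num

/-- The case of a single central four-group. -/
theorem families_of_four [IsSimpleGroup G] (hP : Cfsg.Agent.Lib.Goldschmidt53.PropSimple.{u})
    (hG : ¬ IsMulCommutative G) (hV : VHyp G) {S : Sylow 2 G} (hF : OnlyFour S) : Families G := by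
  haveI : Fact (Nat.Prime 2) := ⟨Nat.prime_two⟩
  obtain ⟨v, w, hv, hw, hv1, hw1, hwv, hall⟩ := hF
  have hcomm : ∀ x ∈ (S : Subgroup G), x * x = 1 → ∀ y ∈ (S : Subgroup G), x * y = y * x := by
    intro x hx hx2 y hy
    rcases hall x hx hx2 with rfl | rfl | rfl | rfl
    · simp
    · exact (hv.comm y hy).symm
    · exact (hw.comm y hy).symm
    · exact ((hv.mul hw).comm y hy).symm
  let A : Subgroup G :=
    { carrier := {x | x ∈ (S : Subgroup G) ∧ x * x = 1}
      one_mem' := ⟨one_mem _, one_mul 1⟩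
      mul_mem' := fun {a b} ha hb => ⟨mul_mem ha.1 hb.1, by
        rw [mul_assoc, ← mul_assoc b, ← hcomm a ha.1 ha.2 b hb.1, mul_assoc a b b, hb.2, mul_one,
          ha.2]⟩
      inv_mem' := fun {a} ha => ⟨inv_mem ha.1, by rw [← mul_inv_rev, ha.2, inv_one]⟩ }
  have hne : A ≠ ⊥ := fun e => hv1 (Subgroup.mem_bot.1 (e ▸ (⟨hv.mem, hv.sq⟩ : v ∈ A)))
  have hel : Cfsg.IsElementaryAbelian 2 A :=
    ⟨⟨⟨fun a b => Subtype.ext (hcomm a a.2.1 a.2.2 b b.2.1)⟩⟩, fun a ha => by rw [sq]; exact ha.2⟩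
  have hsc : Cfsg.IsStronglyClosed A (S : Subgroup G) :=
    ⟨fun x hx => hx.1, fun x hx g hg => ⟨hg, by
      rw [show g * x * g⁻¹ * (g * x * g⁻¹) = g * (x * x) * g⁻¹ by group, hx.2, mul_one,
        mul_inv_cancel]⟩⟩
  exact families_of_known hV
    (hP _ G (Nat.lt_succ_self _) inferInstance hG S A hne hel hsc).1

/-- The simple statement from Goldschmidt's theorem. -/
theorem simpleStatement_of (hP : Cfsg.Agent.Lib.Goldschmidt53.PropSimple.{u}) :
    SimpleStatement.{u} := by
  intro G _ _ _ hG hV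
  obtain ⟨S⟩ : Nonempty (Sylow 2 G) := inferInstance
  by_cases hab : IsMulCommutative ↥(S : Subgroup G)
  · exact families_of_abelian (Cfsg.Agent.Lib.Walter.propKnown Cfsg.Agent.Lib.BenderOne.propSplitFinal
      Cfsg.Agent.Lib.GorensteinWalter.propMainFinal) hG hV S hab
  · have hnab : ∃ a b : ↥(S : Subgroup G), a * b ≠ b * a := by
      by_contra hne
      push Not at hne
      exact hab ⟨⟨hne⟩⟩
    rcases (Base.families_or_four ⟨hG, hV, hnab⟩
      (Cfsg.Agent.Lib.Crit59.Assembly.critFaithful Cfsg.Agent.Lib.Crit5.Top.propCore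
        Cfsg.Agent.Lib.Crit8.propKernel)
      Cfsg.Agent.Lib.BenderOne.propPartOneFinal Cfsg.Agent.Lib.BenderSuzuki.propMain) with h | h
    · exact h
    · exact families_of_four hP hG hV h

end Cfsg.Agent.Inter3185
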