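import Cfsg.Agent.Lib.Inter3185.Facts
import Cfsg.Agent.Lib.Crit59.Setting
import Cfsg.Agent.Lib.BenderConsumers23.Simple
import Cfsg.Agent.Lib.Balance.LBalance
import Cfsg.Agent.Lib.ZStar.StronglyClosed
import Cfsg.Agent.Lib.Inv59.Basic

/-!
# A group whose non-central involutions lie in one Sylow 2-subgroup each (helper88)

`Loc S v`: `Q` is core-free, `v` is a central involution and every other involution of `S` lies only in
`S`.  If `S` is not normal, the normal closure `K` of a suitable central involution `u ≠ v` of `S` is,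
modulo `Zk K`, a Bender group, whose point stabiliser is the image of `K ∩ N(S)`.
-/

set_option autoImplicit false
set_option linter.style.haveILetI false
set_option linter.unusedSectionVars false

namespace Cfsg.Agent.Inter3185

open Cfsg.Agent.Lib.Inv59.Basic Cfsg.Agent.Lib.Crit59
open Cfsg.Agent.Lib.BenderSuzuki Cfsg.Agent.Lib.BenderConsumers23 Cfsg.Agent.Lib.RankOne.Basic

universe u

variable {Q : Type u} [Group Q] [Finite Q]

/-- The setting at an involution centraliser modulo its core. -/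
structure Loc (S : Sylow 2 Q) (v : Q) : Prop where
  core : Cfsg.oddCore Q = ⊥
  invol : orderOf v = 2
  central : v ∈ Subgroup.center Q
  uniq : ∀ T : Sylow 2 Q, ∀ x ∈ (S : Subgroup Q), x ∈ (T : Subgroup Q) → x * x = 1 → x ≠ 1 → x ≠ v →
    T = S

/-- A central involution of `S` other than `v`. -/
structure Good1 (S : Sylow 2 Q) (v w : Q) : Prop where
  mem : w ∈ (S : Subgroup Q)
  cent : ∀ s ∈ (S : Subgroup Q), s * w = w * s
  sq : w * w = 1
  ne1 : w ≠ 1
  nev : w ≠ v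

/-- The subgroup `K ∩ C(K)`. -/
abbrev Zk (K : Subgroup Q) : Subgroup Q := K ⊓ Subgroup.centralizer (K : Set Q)

/-- The chosen involution, whose normal closure is as small as possible. -/
structure Pick (S : Sylow 2 Q) (v w : Q) : Prop extends Good1 S v w where
  min : ∀ w', Good1 S v w' →
    Nat.card (Subgroup.normalClosure ({w} : Set Q)) ≤ Nat.card (Subgroup.normalClosure ({w'} : Set Q))
  notNormal : ¬ (S : Subgroup Q).Normal

theorem exists_pick {S : Sylow 2 Q} {v w : Q} (hw : Good1 S v w) (hS : ¬ (S : Subgroup Q).Normal) :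
    ∃ u, Pick S v u := by
  classical
  have hex : ∃ n, ∃ w', Good1 S v w' ∧ Nat.card (Subgroup.normalClosure ({w'} : Set Q)) = n :=
    ⟨_, w, hw, rfl⟩
  obtain ⟨u, hu, hun⟩ := Nat.find_spec hex
  exact ⟨u, hu, fun w' hw' => hun ▸ Nat.find_min' hex ⟨w', hw', rfl⟩, hS⟩

/-- The point stabiliser `N(S)`. -/
abbrev NS (S : Sylow 2 Q) : Subgroup Q := Subgroup.normalizer ((S : Subgroup Q) : Set Q)

namespace Loc

variable {S : Sylow 2 Q} {v : Q}

theorem exists_pow_two (S : Sylow 2 Q) {x : Q} (hx : x ∈ (S : Subgroup Q)) : ∃ k, x ^ 2 ^ k = 1 := by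
  obtain ⟨k, hk⟩ := S.isPGroup' ⟨x, hx⟩
  exact ⟨k, congrArg Subtype.val hk⟩

theorem mem_of_invol_normalizer {x : Q} (hx : x ∈ NS S) (h : x * x = 1) : x ∈ (S : Subgroup Q) :=
  mem_sylow_of_normalizer S 1 (by rw [pow_one, sq, h]) hx

variable (h : Loc S v)
include h

theorem v_sq : v * v = 1 := by rw [← sq, ← h.invol, pow_orderOf_eq_one]

theorem v_ne : v ≠ 1 := fun e => by
  have := h.invol
  rw [e, orderOf_one] at this
  omega

theorem v_comm (g : Q) : g * v = v * g := Subgroup.mem_center_iff.1 h.central g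

theorem v_mem : v ∈ (S : Subgroup Q) :=
  mem_of_invol_normalizer (mem_normalizer_of_conj_mem _ fun x hx => by
    rw [← h.v_comm x, mul_inv_cancel_right]; exact hx) h.v_sq

/-- An involution of `S` other than `v` with a conjugate in `N(S)` fixes the conjugating coset. -/
theorem mem_NS_of_conj {x g : Q} (hx : x ∈ (S : Subgroup Q)) (hx2 : x * x = 1) (hx1 : x ≠ 1)
    (hxv : x ≠ v) (hg : g * x * g⁻¹ ∈ NS S) : g ∈ NS S := by
  have hy2 : g * x * g⁻¹ * (g * x * g⁻¹) = 1 := by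
    rw [show g * x * g⁻¹ * (g * x * g⁻¹) = g * (x * x) * g⁻¹ by group, hx2, mul_one, mul_inv_cancel]
  have hy := mem_of_invol_normalizer hg hy2
  have hy1 : g * x * g⁻¹ ≠ 1 := fun e => hx1 (conj_eq_one_iff.1 e)
  have hyv : g * x * g⁻¹ ≠ v := fun e => hxv (by
    calc x = g⁻¹ * (g * x * g⁻¹) * g := by group
      _ = g⁻¹ * v * g := by rw [e]
      _ = v := by rw [h.v_comm, mul_assoc, inv_mul_cancel, mul_one])
  have hgS : g • S = S := h.uniq _ _ hy (by
    rw [Sylow.coe_subgroup_smul, Subgroup.mem_pointwise_smul_iff_inv_smul_mem]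
    simpa [MulAut.smul_def, mul_assoc] using hx) hy2 hy1 hyv
  exact Sylow.smul_eq_iff_mem_normalizer.1 hgS

/-- A normal 2-subgroup has no involution but `v` unless `S` is normal. -/
theorem invol_of_normal (hS : ¬ (S : Subgroup Q).Normal) {N : Subgroup Q} (hN : N.Normal)
    (hNS : N ≤ (S : Subgroup Q)) {x : Q} (hx : x ∈ N) (hx2 : x * x = 1) : x = 1 ∨ x = v := by
  by_contra hne
  push Not at hne
  exact hS (Subgroup.normalizer_eq_top_iff.1 ((Subgroup.eq_top_iff' _).2 fun g =>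
    h.mem_NS_of_conj (hNS hx) hx2 hne.1 hne.2 (Subgroup.le_normalizer (hNS (hN.conj_mem x hx g)))))

/-- A normal abelian subgroup lies in `S`. -/
theorem le_sylow_of_comm {N : Subgroup Q} (hN : N.Normal) (hc : ∀ a ∈ N, ∀ b ∈ N, a * b = b * a) :
    N ≤ (S : Subgroup Q) := by
  haveI : Fact (Nat.Prime 2) := ⟨Nat.prime_two⟩
  haveI := hN
  -- the elements of odd order form an odd normal subgroup
  let O : Subgroup Q :=
    { carrier := {x | x ∈ N ∧ Odd (orderOf x)}
      one_mem' := ⟨one_mem _, by rw [orderOf_one]; exact odd_one⟩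
      mul_mem' := fun {a b} ha hb => ⟨mul_mem ha.1 hb.1,
        Odd.of_dvd_nat (ha.2.mul hb.2) ((show Commute a b from hc a ha.1 b hb.1).orderOf_mul_dvd_mul_orderOf)⟩
      inv_mem' := fun {a} ha => ⟨inv_mem ha.1, by rw [orderOf_inv]; exact ha.2⟩ }
  haveI : O.Normal := ⟨fun x hx g => ⟨hN.conj_mem x hx.1 g, by
    rw [Cfsg.Agent.Lib.Involutions.Basic.orderOf_conj_eq]; exact hx.2⟩⟩
  have hO : O = ⊥ := by
    have hodd : Odd (Nat.card O) := by
      rw [← Nat.not_even_iff_odd, even_iff_two_dvd]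
      intro h2
      obtain ⟨x, hx⟩ := exists_prime_orderOf_dvd_card' (G := O) 2 h2
      have := x.2.2
      rw [Subgroup.orderOf_coe, hx] at this
      exact Nat.not_odd_iff_even.2 even_two this
    exact le_bot_iff.1 (h.core ▸ Cfsg.Agent.Lib.ZStar.Elements.le_oddCore hodd)
  intro x hx
  obtain ⟨k, m, hm, hkm⟩ := Nat.exists_eq_pow_mul_and_not_dvd (orderOf_pos x).ne' 2 (by norm_num)
  have hxk : x ^ 2 ^ k ∈ O := ⟨pow_mem hx _, by
    rw [orderOf_pow_of_dvd (pow_ne_zero _ two_ne_zero) (hkm ▸ dvd_mul_right _ _), hkm,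
      Nat.mul_div_cancel_left _ (pow_pos two_pos k)]
    exact Nat.odd_iff.2 (by omega)⟩
  rw [hO, Subgroup.mem_bot] at hxk
  let W : Subgroup Q :=
    { carrier := {y | y ∈ N ∧ ∃ i, y ^ 2 ^ i = 1}
      one_mem' := ⟨one_mem _, 0, one_pow _⟩
      mul_mem' := fun {a b} ⟨ha, i, hi⟩ ⟨hb, j, hj⟩ => ⟨mul_mem ha hb, i + j, by
        rw [Commute.mul_pow (hc a ha b hb), pow_add, pow_mul, hi, one_pow, one_mul, mul_comm,
          pow_mul, hj, one_pow]⟩
      inv_mem' := fun {a} ⟨ha, i, hi⟩ => ⟨inv_mem ha, i, by rw [inv_pow, hi, inv_one]⟩ }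
  haveI : W.Normal := ⟨fun y hy g => ⟨hN.conj_mem y hy.1 g, hy.2.choose, by
    rw [conj_pow, hy.2.choose_spec, mul_one, mul_inv_cancel]⟩⟩
  have hWp : IsPGroup 2 W := fun y => ⟨y.2.2.choose, Subtype.ext y.2.2.choose_spec⟩
  obtain ⟨P', hP'⟩ := hWp.exists_le_sylow
  obtain ⟨g', hg'⟩ := MulAction.exists_smul_eq Q P' S
  have hxW : g'⁻¹ * x * g' ∈ W := by
    simpa using (inferInstance : W.Normal).conj_mem x (⟨hx, k, hxk⟩ : x ∈ W) g'⁻¹
  have h1 : g' * (g'⁻¹ * x * g') * g'⁻¹ ∈ (S : Subgroup Q) :=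
    Cfsg.Agent.Lib.ZStar.Elements.smul_mem hg' (hP' hxW)
  rwa [show g' * (g'⁻¹ * x * g') * g'⁻¹ = x by group] at h1

variable {w : Q} (hw : Pick S v w)
include hw

omit h in
theorem mem_K : w ∈ Subgroup.normalClosure ({w} : Set Q) := Subgroup.subset_normalClosure rfl

theorem not_le_NS : ¬ Subgroup.normalClosure ({w} : Set Q) ≤ NS S := by
  intro hle
  set K := Subgroup.normalClosure ({w} : Set Q)
  refine hw.notNormal (Subgroup.normalizer_eq_top_iff.1 ((Subgroup.eq_top_iff' _).2 fun g => ?_))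
  exact h.mem_NS_of_conj hw.mem hw.sq hw.ne1 hw.nev
    (hle (Subgroup.normalClosure_normal.conj_mem _ (mem_K hw) g))

/-- The normal 2-subgroups are centralised by `K`. -/
theorem commute_of_normal {N : Subgroup Q} (hN : N.Normal) (hNS : N ≤ (S : Subgroup Q)) :
    N ≤ Subgroup.centralizer (Subgroup.normalClosure ({w} : Set Q) : Set Q) := by
  haveI := hN
  rw [Subgroup.le_centralizer_iff]
  refine (Subgroup.normalClosure_le_normal ?_)
  rintro x rfl
  exact Subgroup.mem_centralizer_iff.2 fun n hn => hw.cent n (hNS hn)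

theorem zk_le : Zk (Subgroup.normalClosure ({w} : Set Q)) ≤ (S : Subgroup Q) :=
  h.le_sylow_of_comm inferInstance fun _ ha _ hb =>
    (Subgroup.mem_centralizer_iff.1 hb.2 _ ha.1)

theorem zk_invol {x : Q} (hx : x ∈ Zk (Subgroup.normalClosure ({w} : Set Q))) (hx2 : x * x = 1) :
    x = 1 ∨ x = v :=
  h.invol_of_normal hw.notNormal inferInstance (h.zk_le hw) hx hx2

/-- `Q = K N(S)`. -/
theorem frattini (g : Q) : ∃ k ∈ Subgroup.normalClosure ({w} : Set Q), ∃ n ∈ NS S, g = k * n := by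
  haveI : Fact (Nat.Prime 2) := ⟨Nat.prime_two⟩
  set K := Subgroup.normalClosure ({w} : Set Q)
  obtain ⟨P, hP⟩ := Cfsg.Agent.Lib.Balance.exists_sylow_inf_normal S K
  have hgw : g * w * g⁻¹ ∈ K := Subgroup.normalClosure_normal.conj_mem _ (mem_K hw) g
  set y : K := ⟨g * w * g⁻¹, hgw⟩
  have hy : IsPGroup 2 (Subgroup.zpowers y) := IsPGroup.of_card (n := 1) (by
    rw [Nat.card_zpowers, ← Subgroup.orderOf_coe, pow_one]
    show orderOf (g * w * g⁻¹) = 2
    rw [Cfsg.Agent.Lib.Involutions.Basic.orderOf_conj_eq]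
    exact orderOf_eq_prime (by rw [sq, hw.sq]) hw.ne1)
  obtain ⟨P', hP'⟩ := hy.exists_le_sylow
  obtain ⟨k, hk⟩ := MulAction.exists_smul_eq K P' P
  have hmem := Cfsg.Agent.Lib.ZStar.Elements.smul_mem hk (hP' (Subgroup.mem_zpowers y))
  have hmem' : k * y * k⁻¹ ∈ (P : Subgroup K) := hmem
  rw [hP] at hmem'
  have hS : ((k : Q) * g) * w * ((k : Q) * g)⁻¹ ∈ (S : Subgroup Q) := by
    rw [show (k : Q) * g * w * ((k : Q) * g)⁻¹ = (k : Q) * (g * w * g⁻¹) * (k : Q)⁻¹ by group]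
    exact hmem'
  exact ⟨(k : Q)⁻¹, inv_mem k.2, (k : Q) * g,
    h.mem_NS_of_conj hw.mem hw.sq hw.ne1 hw.nev (Subgroup.le_normalizer hS), by group⟩

/-- A conjugate of `w` in `S`. -/
theorem conj_good {g : Q} (hg : g ∈ NS S) : Good1 S v (g * w * g⁻¹) := by
  refine ⟨Subgroup.mem_normalizer_iff.1 hg w |>.1 hw.mem, fun s hs => ?_, ?_, ?_, ?_⟩
  · have h1 : g⁻¹ * s * g ∈ (S : Subgroup Q) := by
      simpa using (Subgroup.mem_normalizer_iff.1 (inv_mem hg) s).1 hs
    calc s * (g * w * g⁻¹) = g * (g⁻¹ * s * g * w) * g⁻¹ := by group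
      _ = g * (w * (g⁻¹ * s * g)) * g⁻¹ := by rw [hw.cent _ h1]
      _ = g * w * g⁻¹ * s := by group
  · rw [show g * w * g⁻¹ * (g * w * g⁻¹) = g * (w * w) * g⁻¹ by group, hw.sq, mul_one, mul_inv_cancel]
  · exact fun e => hw.ne1 (conj_eq_one_iff.1 e)
  · intro e
    refine hw.nev ?_
    calc w = g⁻¹ * (g * w * g⁻¹) * g := by group
      _ = v := by rw [e, h.v_comm, mul_assoc, inv_mul_cancel, mul_one]

/-- No conjugate of `w` under `N(S)` is `wv`. -/
theorem conj_ne_mul {g : Q} (hg : g ∈ NS S) : g * w * g⁻¹ ≠ w * v := by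
  intro e
  obtain ⟨k, m, hm, hkm⟩ := Nat.exists_eq_pow_mul_and_not_dvd (orderOf_pos g).ne' 2 (by norm_num)
  have key : ∀ n : ℕ, g ^ n * w * (g ^ n)⁻¹ = w * v ^ n := by
    intro n
    induction n with
    | zero => simp
    | succ n ih =>
      calc g ^ (n + 1) * w * (g ^ (n + 1))⁻¹ = g * (g ^ n * w * (g ^ n)⁻¹) * g⁻¹ := by
            rw [pow_succ']; group
        _ = g * w * (v ^ n * g⁻¹) := by rw [ih]; group
        _ = g * w * (g⁻¹ * v ^ n) := by
            rw [Subgroup.mem_center_iff.1 (pow_mem h.central n) g⁻¹]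
        _ = w * v ^ (n + 1) := by rw [← mul_assoc, e, pow_succ', mul_assoc]
  have hm2 : g ^ m ∈ (S : Subgroup Q) := by
    refine mem_sylow_of_normalizer S k ?_ (pow_mem hg m)
    rw [← pow_mul, mul_comm, ← hkm, pow_orderOf_eq_one]
  have h1 := key m
  rw [hw.cent _ hm2, mul_inv_cancel_right] at h1
  obtain ⟨i, hi⟩ : Odd m := Nat.odd_iff.2 (by omega)
  rw [hi, pow_succ, pow_mul, sq, h.v_sq, one_pow, one_mul] at h1
  exact h.v_ne (mul_left_cancel (a := w) (by rw [mul_one]; exact h1.symm))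

/-- `w` has another conjugate in `S`. -/
theorem exists_conj : ∃ g ∈ NS S, g * w * g⁻¹ ≠ w := by
  by_contra hne
  push Not at hne
  have hiso : ∀ g : Q, g * w * g⁻¹ ∈ (S : Subgroup Q) → g * w * g⁻¹ = w := fun g hg =>
    hne g (h.mem_NS_of_conj hw.mem hw.sq hw.ne1 hw.nev (Subgroup.le_normalizer hg))
  obtain ⟨N, hN, hNodd, hcomm⟩ := Cfsg.Agent.Lib.ZStar.StronglyClosed.involutionThm Q S w
    (orderOf_eq_prime (by rw [sq, hw.sq]) hw.ne1) hw.mem hiso
  haveI := hN
  have hNb : N = ⊥ := le_bot_iff.1 (h.core ▸ Cfsg.Agent.Lib.ZStar.Elements.le_oddCore hNodd)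
  have hc : ∀ g : Q, g * w = w * g := fun g => by
    have := hcomm g
    rw [hNb, Subgroup.mem_bot, mul_inv_eq_one, mul_inv_eq_iff_eq_mul] at this
    exact this.symm
  exact hw.notNormal (Subgroup.normalizer_eq_top_iff.1 ((Subgroup.eq_top_iff' _).2 fun g =>
    h.mem_NS_of_conj hw.mem hw.sq hw.ne1 hw.nev (Subgroup.le_normalizer (by
      rw [hc, mul_inv_cancel_right]; exact hw.mem))))

end Loc

end Cfsg.Agent.Inter3185
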