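import Cfsg.Agent.Lib.Inter3185.Split

/-!
# A centraliser which is not 2-closed modulo its core is impossible (helper88)
-/

set_option autoImplicit false
set_option linter.style.haveILetI false
set_option linter.unusedSectionVars false

namespace Cfsg.Agent.Inter3185

open Cfsg.Agent.Lib.Crit59 Cfsg.Agent.Lib.BenderSuzuki Cfsg.Agent.Lib.BenderConsumers23

universe u

variable {Q : Type u} [Group Q] [Finite Q]

namespace Loc

variable {S : Sylow 2 Q} {v w : Q} (h : Loc S v) (hw : Pick S v w)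
include h hw

theorem kShape (hzk : Zk (Kc w) = ⊥) (hT : Target ↥(Kb w)) :
    KShape ↥((S : Subgroup Q) ⊓ Kc w) := by
  set σ : ↥(Kc w) →* ↥(Kb w) := (QuotientGroup.mk' (Zk (Kc w))).subgroupMap (Kc w) with hσ
  have hσb : Function.Bijective σ := by
    refine ⟨?_, MonoidHom.subgroupMap_surjective _ _⟩
    rw [← MonoidHom.ker_eq_bot_iff, Subgroup.eq_bot_iff_forall]
    intro x hx
    have h1 : (x : Q) ∈ Zk (Kc w) := (QuotientGroup.eq_one_iff _).1 (congrArg Subtype.val hx)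
    rw [hzk, Subgroup.mem_bot] at h1
    exact Subtype.ext h1
  obtain ⟨P, hP⟩ := Cfsg.Agent.Lib.Balance.exists_sylow_inf_normal S (Kc w)
  have h1 := kShape_of_target (hT.congr (MulEquiv.ofBijective σ hσb)) P
  refine h1.congr ((MulEquiv.subgroupCongr (hP.trans ?_)).trans
    (Subgroup.subgroupOfEquivOfLe (inf_le_right : (S : Subgroup Q) ⊓ Kc w ≤ Kc w)))
  rw [Subgroup.inf_subgroupOf_right]

end Loc

/-- The three shapes, from the criterion and the theorem of Bender and Suzuki. -/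
theorem Loc.shapes (hcrit : CritFaithful.{u}) (hP : PropPartOne.{u}) (hMain : PropMain.{u, u})
    {S : Sylow 2 Q} {v : Q} (h : Loc S v) {u : Q} (hu : Good1 S v u)
    (hS : ¬ (S : Subgroup Q).Normal) (hnab : ∃ a b : ↥(S : Subgroup Q), a * b ≠ b * a) :
    ShapeW (⟨v, h.v_mem⟩ : ↥(S : Subgroup Q)) ∨ ShapeR (⟨v, h.v_mem⟩ : ↥(S : Subgroup Q)) ∨
      ShapeU (⟨v, h.v_mem⟩ : ↥(S : Subgroup Q)) := by
  obtain ⟨w, hw⟩ := exists_pick hu hS
  obtain ⟨hT, t, P, hB⟩ := h.bender hw hcrit hP hMain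
  obtain ⟨t₀, hF⟩ := h.frame hw hB
  have hzk := h.zk_eq_bot hw hT hF
  exact SplitHyp.shapes ⟨h, hw, hzk, h.kShape hw hzk hT, hF⟩ hnab h.v_mem

/-- With `Γ` moving the central involutions the centraliser is 2-closed modulo its core. -/
theorem Loc.normal_of_moves (hcrit : CritFaithful.{u}) (hP : PropPartOne.{u})
    (hMain : PropMain.{u, u}) {S : Sylow 2 Q} {v : Q} (h : Loc S v) {u : Q} (hu : Good1 S v u)
    (hnab : ∃ a b : ↥(S : Subgroup Q), a * b ≠ b * a)
    (Γ : Subgroup (MulAut ↥(S : Subgroup Q))) (hΓ : Moves Γ) : (S : Subgroup Q).Normal := by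
  by_contra hS
  have hv : IsV (⟨v, h.v_mem⟩ : ↥(S : Subgroup Q)) :=
    ⟨Subgroup.mem_center_iff.2 fun g => Subtype.ext (h.v_comm g), Subtype.ext h.v_sq⟩
  rcases h.shapes hcrit hP hMain hu hS hnab with h1 | h1 | h1
  · exact false_of_shapeW hΓ hv h1
  · exact false_of_shapeR S.isPGroup' hΓ hv h1
  · exact false_of_shapeU hΓ hv h1

end Cfsg.Agent.Inter3185
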