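import Cfsg.Agent.Lib.Inter3185.Local

/-!
# The Bender group inside a centraliser which is not 2-closed (helper88)
-/

set_option autoImplicit false
set_option linter.style.haveILetI false
set_option linter.unusedSectionVars false
set_option maxHeartbeats 1000000

namespace Cfsg.Agent.Inter3185

open Cfsg.Agent.Lib.Inv59.Basic Cfsg.Agent.Lib.Crit59
open Cfsg.Agent.Lib.BenderSuzuki Cfsg.Agent.Lib.BenderConsumers23 Cfsg.Agent.Lib.RankOne.Basic

universe u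

variable {Q : Type u} [Group Q] [Finite Q]

/-- The closure of the chosen involution. -/
abbrev Kc (w : Q) : Subgroup Q := Subgroup.normalClosure ({w} : Set Q)

/-- Its image modulo `Zk`. -/
abbrev Kb (w : Q) : Subgroup (Q ⧸ Zk (Kc w)) := (Kc w).map (QuotientGroup.mk' (Zk (Kc w)))

/-- The image of `N(S)` in it. -/
abbrev Hb (S : Sylow 2 Q) (w : Q) : Subgroup ↥(Kb w) :=
  ((NS S).map (QuotientGroup.mk' (Zk (Kc w)))).subgroupOf (Kb w)

/-- The class of `w` in the quotient. -/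
def Db (w : Q) : Set ↥(Kb w) :=
  {d | ∃ g : Q, QuotientGroup.mk' (Zk (Kc w)) (g * w * g⁻¹) = d}

/-- The rank-one set-up on the quotient. -/
structure BData (S : Sylow 2 Q) (w : Q) (t : ↥(Kb w)) (P : Subgroup ↥(Kb w)) : Prop where
  setup : Cfsg.IsRankOneSetup ↥(Kb w) (↥(Kb w) ⧸ Hb S w) ((1 : ↥(Kb w)) : ↥(Kb w) ⧸ Hb S w) t P
  pgroup : IsPGroup 2 P
  cent : ∀ d ∈ twoStab ↥(Kb w) ((1 : ↥(Kb w)) : ↥(Kb w) ⧸ Hb S w) t, t * d * t⁻¹ = d →
    ∀ s ∈ invs ↥(Kb w) ((1 : ↥(Kb w)) : ↥(Kb w) ⧸ Hb S w), d * s * d⁻¹ = s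

namespace Loc

variable {S : Sylow 2 Q} {v w : Q} (h : Loc S v) (hw : Pick S v w)
include h hw

local notation "π" => QuotientGroup.mk' (Zk (Kc w))

theorem mem_NS_of_map {x : Q} (hx : π x ∈ (NS S).map π) : x ∈ NS S := by
  obtain ⟨n, hn, hnx⟩ := hx
  have h1 : n⁻¹ * x ∈ Zk (Kc w) := QuotientGroup.eq.1 hnx
  have := mul_mem hn (Subgroup.le_normalizer (h.zk_le hw h1))
  rwa [mul_inv_cancel_left] at this

theorem mem_Hb {k : Q} (hk : π k ∈ Kb w) : (⟨π k, hk⟩ : ↥(Kb w)) ∈ Hb S w ↔ k ∈ NS S :=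
  ⟨fun hh => h.mem_NS_of_map hw hh, fun hh => Subgroup.mem_map_of_mem _ hh⟩

theorem conj_invol (g : Q) : g * w * g⁻¹ * (g * w * g⁻¹) = 1 ∧ g * w * g⁻¹ ≠ 1 ∧
    g * w * g⁻¹ ≠ v := by
  refine ⟨by rw [show g * w * g⁻¹ * (g * w * g⁻¹) = g * (w * w) * g⁻¹ by group, hw.sq, mul_one,
    mul_inv_cancel], fun e => hw.ne1 (conj_eq_one_iff.1 e), fun e => hw.nev ?_⟩
  calc w = g⁻¹ * (g * w * g⁻¹) * g := by group
    _ = v := by rw [e, h.v_comm, mul_assoc, inv_mul_cancel, mul_one]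

theorem conj_not_zk (g : Q) : π (g * w * g⁻¹) ≠ 1 := fun e => by
  obtain ⟨h1, h2, h3⟩ := h.conj_invol hw g
  rcases h.zk_invol hw ((QuotientGroup.eq_one_iff _).1 e) h1 with h' | h'
  · exact h2 h'
  · exact h3 h'

theorem setting : Setting (Hb S w) (Db w) := by
  haveI : Fact (Nat.Prime 2) := ⟨Nat.prime_two⟩
  refine ⟨?_, ?_, ?_, ?_, ?_, ?_⟩
  · intro e
    refine h.not_le_NS hw fun k hk => ?_
    exact (h.mem_Hb hw (Subgroup.mem_map_of_mem _ hk)).1 (e ▸ Subgroup.mem_top _)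
  · rintro d ⟨g, hg⟩
    rw [← Subgroup.orderOf_coe, ← hg]
    refine orderOf_eq_prime (by rw [sq, ← map_mul, (h.conj_invol hw g).1, map_one]) (h.conj_not_zk hw g)
  · rintro d ⟨g, hg⟩ ⟨y, k, hk, rfl⟩
    refine ⟨k * g, ?_⟩
    show π (k * g * w * (k * g)⁻¹) = π k * (d : Q ⧸ Zk (Kc w)) * (π k)⁻¹
    rw [← hg, ← map_inv, ← map_mul, ← map_mul]
    congr 1; group
  · rintro d ⟨g, hg⟩
    obtain ⟨k, hk, n, hn, rfl⟩ := h.frattini hw g
    refine ⟨⟨π k⁻¹, Subgroup.mem_map_of_mem _ (inv_mem hk)⟩, ?_⟩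
    refine ⟨n * w * n⁻¹, Subgroup.le_normalizer (h.conj_good hw hn).mem, ?_⟩
    show π (n * w * n⁻¹) = π k⁻¹ * (d : Q ⧸ Zk (Kc w)) * (π k⁻¹)⁻¹
    rw [← hg, ← map_inv, ← map_mul, ← map_mul]
    congr 1; group
  · rintro d ⟨g, hg⟩ hd ⟨y, k, hk, rfl⟩ hy
    rw [h.mem_Hb hw (Subgroup.mem_map_of_mem _ hk)]
    have hx : g * w * g⁻¹ ∈ NS S := h.mem_NS_of_map hw (by rw [hg]; exact hd)
    obtain ⟨h1, h2, h3⟩ := h.conj_invol hw g
    refine h.mem_NS_of_conj (Loc.mem_of_invol_normalizer hx h1) h1 h2 h3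
      (h.mem_NS_of_map hw ?_)
    rw [map_mul, map_mul, map_inv, hg]
    exact hy
  · have hodd := odd_orbit (G := Q ⧸ Zk (Kc w)) (S.mapSurjective (QuotientGroup.mk'_surjective _))
      (H := (NS S).map π) (z := π w) (by
        rw [Sylow.coe_mapSurjective]; exact Subgroup.map_mono Subgroup.le_normalizer) (by
        rw [Sylow.coe_mapSurjective]
        rintro _ ⟨s, hs, rfl⟩
        rw [Subgroup.mem_centralizer_singleton_iff, ← map_mul, ← map_mul, hw.cent s hs])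
    refine (Nat.card_congr ?_) ▸ hodd
    refine Equiv.symm (Equiv.ofBijective (fun d => ⟨(d.1 : Q ⧸ Zk (Kc w)), ?_⟩) ⟨?_, ?_⟩)
    · obtain ⟨⟨g, hg⟩, hd⟩ := d.2
      have hx : g * w * g⁻¹ ∈ NS S := h.mem_NS_of_map hw (by rw [hg]; exact hd)
      refine ⟨π g, Subgroup.mem_map_of_mem _
        (h.mem_NS_of_conj hw.mem hw.sq hw.ne1 hw.nev hx), ?_⟩
      rw [← hg, map_mul, map_mul, map_inv]
    · intro a b e
      exact Subtype.ext (Subtype.ext (congrArg Subtype.val e :))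
    · rintro ⟨y, m, ⟨n, hn, rfl⟩, rfl⟩
      have hmem : π (n * w * n⁻¹) ∈ Kb w :=
        Subgroup.mem_map_of_mem _ (Subgroup.normalClosure_normal.conj_mem _ (mem_K hw) n)
      refine ⟨⟨⟨_, hmem⟩, ⟨n, rfl⟩, (h.mem_Hb hw hmem).2
        (Subgroup.le_normalizer (h.conj_good hw hn).mem)⟩, Subtype.ext ?_⟩
      show π (n * w * n⁻¹) = _
      rw [map_mul, map_mul, map_inv]

theorem closure_Db : Subgroup.closure (Db w) = ⊤ := by
  refine (Subgroup.eq_top_iff' _).2 ?_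
  rintro ⟨y, hy⟩
  obtain ⟨k, hk, hky⟩ := id hy
  have hle : Kc w ≤ ((Subgroup.closure (Db w)).map (Kb w).subtype).comap π := by
    refine (Subgroup.closure_le _).2 fun x hx => ?_
    obtain ⟨a, ha, hax⟩ := Group.mem_conjugatesOfSet_iff.1 hx
    rw [show a = w from ha] at hax
    obtain ⟨g, rfl⟩ := isConj_iff.1 hax
    exact ⟨⟨π (g * w * g⁻¹), Subgroup.mem_map_of_mem _
      (Subgroup.normalClosure_normal.conj_mem _ (mem_K hw) g)⟩,
      Subgroup.subset_closure ⟨g, rfl⟩, rfl⟩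
  obtain ⟨z, hz, hzk⟩ := hle hk
  have e : z = ⟨y, hy⟩ := Subtype.ext (hzk.trans hky)
  exact e ▸ hz

theorem core_Hb : (Hb S w).normalCore = ⊥ := by
  rw [Subgroup.eq_bot_iff_forall]
  rintro ⟨y, x, hx, rfl⟩ hy
  set N₀ := Kc w ⊓ (NS S).normalCore with hN₀
  have hxN : x ∈ N₀ := by
    refine ⟨hx, fun g => ?_⟩
    obtain ⟨k, hk, n, hn, hg⟩ := h.frattini hw g⁻¹
    have h1 := hy ⟨π k⁻¹, Subgroup.mem_map_of_mem _ (inv_mem hk)⟩
    have h2 : k⁻¹ * x * k⁻¹⁻¹ ∈ NS S := h.mem_NS_of_map hw (by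
      rw [map_mul, map_mul, map_inv _ k⁻¹]
      exact h1)
    have h3 := mul_mem (mul_mem (inv_mem hn) h2) hn
    rw [show n⁻¹ * (k⁻¹ * x * k⁻¹⁻¹) * n = (k * n)⁻¹ * x * (k * n) by group, ← hg, inv_inv] at h3
    exact h3
  haveI : N₀.Normal := by rw [hN₀]; infer_instance
  have hT : ∀ d ∈ N₀, d * w * d⁻¹ = w := by
    intro d hd
    have hdn : d ∈ NS S := (NS S).normalCore_le hd.2
    have hg := h.conj_good hw hdn
    by_contra hne
    haveI : (N₀ ⊓ (S : Subgroup Q)).Normal := ⟨fun z hz g => by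
      have hzN : g * z * g⁻¹ ∈ N₀ := (inferInstance : N₀.Normal).conj_mem z hz.1 g
      obtain ⟨i, hi⟩ := exists_pow_two S hz.2
      exact ⟨hzN, mem_sylow_of_normalizer S i (by rw [conj_pow, hi, mul_one, mul_inv_cancel])
        ((NS S).normalCore_le hzN.2)⟩⟩
    have hc : d * w * d⁻¹ * w⁻¹ ∈ N₀ ⊓ (S : Subgroup Q) := by
      refine Subgroup.mem_inf.2 ⟨?_, mul_mem hg.mem (inv_mem hw.mem)⟩
      rw [show d * w * d⁻¹ * w⁻¹ = d * (w * d⁻¹ * w⁻¹) by group]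
      exact mul_mem hd ((inferInstance : N₀.Normal).conj_mem _ (inv_mem hd) w)
    have hwi : w⁻¹ = w := inv_eq_of_mul_eq_one_right hw.sq
    have hc2 : d * w * d⁻¹ * w⁻¹ * (d * w * d⁻¹ * w⁻¹) = 1 := by
      rw [hwi, mul_assoc, ← mul_assoc w, hg.cent w hw.mem, mul_assoc (d * w * d⁻¹) w,
        hw.sq, mul_one]
      exact hg.sq
    rcases h.invol_of_normal hw.notNormal inferInstance inf_le_right hc hc2 with h' | h'
    · exact hne (mul_inv_eq_one.1 h')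
    · refine h.conj_ne_mul hw hdn ?_
      rw [mul_inv_eq_iff_eq_mul.1 h', ← h.v_comm w]
  refine Subtype.ext ((QuotientGroup.eq_one_iff _).2 ⟨hx, ?_⟩)
  have hle : Kc w ≤ Subgroup.centralizer (N₀ : Set Q) := by
    refine Subgroup.normalClosure_le_normal ?_
    rintro z rfl
    exact Subgroup.mem_centralizer_iff.2 fun d hd => mul_inv_eq_iff_eq_mul.1 (hT d hd)
  exact Subgroup.le_centralizer_iff.1 hle hxN

theorem prodHyp : ProdHyp (Hb S w) (Db w) := by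
  rintro d e ⟨a, ha⟩ hdH ⟨b, hb⟩ heH - hne ⟨y, k, hk, rfl⟩ hy
  obtain ⟨a1, a2, a3⟩ := h.conj_invol hw a
  obtain ⟨b1, b2, b3⟩ := h.conj_invol hw b
  have hxS := Loc.mem_of_invol_normalizer (h.mem_NS_of_map hw (by rw [ha]; exact hdH)) a1
  have han : a ∈ NS S := h.mem_NS_of_conj hw.mem hw.sq hw.ne1 hw.nev (Subgroup.le_normalizer hxS)
  have hyS := Loc.mem_of_invol_normalizer (h.mem_NS_of_map hw (by rw [hb]; exact heH)) b1
  set z := a * w * a⁻¹ * (b * w * b⁻¹) with hz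
  have hcomm := (h.conj_good hw han).cent _ hyS
  have hz2 : z * z = 1 := by
    rw [hz, mul_assoc, ← mul_assoc (b * w * b⁻¹), hcomm, mul_assoc (a * w * a⁻¹) (b * w * b⁻¹),
      b1, mul_one, a1]
  have hzz : π z ≠ 1 := fun e1 => hne (Subtype.ext (by
    rw [hz, map_mul, ha, hb] at e1
    have e2 : (e : Q ⧸ Zk (Kc w)) * e = 1 := by rw [← hb, ← map_mul, b1, map_one]
    exact mul_right_cancel (e1.trans e2.symm)))
  have hzv : z ≠ v := fun e1 => hzz ((QuotientGroup.eq_one_iff _).2 ⟨mul_mem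
    (Subgroup.normalClosure_normal.conj_mem _ (mem_K hw) a)
    (Subgroup.normalClosure_normal.conj_mem _ (mem_K hw) b), by
      rw [e1]; exact Subgroup.mem_centralizer_iff.2 fun g _ => h.v_comm g⟩)
  have hy' := congrArg Subtype.val (Subgroup.mem_centralizer_singleton_iff.1 hy)
  have hy'' : π (k * z * k⁻¹) = π z := by
    rw [map_mul, map_mul, map_inv, mul_inv_eq_iff_eq_mul, hz, map_mul, ha, hb]
    exact hy'
  rw [h.mem_Hb hw (Subgroup.mem_map_of_mem _ hk)]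
  refine h.mem_NS_of_conj (mul_mem hxS hyS) hz2 (fun e1 => hzz (by rw [hz, e1, map_one])) hzv ?_
  refine h.mem_NS_of_map hw ?_
  rw [hy'']
  exact Subgroup.mem_map_of_mem _ (Subgroup.le_normalizer (mul_mem hxS hyS))

/-- The Bender group. -/
theorem bender (hcrit : CritFaithful.{u}) (hP : PropPartOne.{u})
    (hMain : PropMain.{u, u}) : Target ↥(Kb w) ∧ ∃ t P, BData S w t P := by
  have hS := h.setting hw
  have hc := h.core_Hb hw
  have hSE : Cfsg.IsStronglyEmbedded (Hb S w) := by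
    have := hcrit ↥(Kb w) (Hb S w) (Db w) hS hc (h.prodHyp hw)
    rw [h.closure_Db hw] at this
    exact Transport.of_subgroupOf_top this
  have h2 : TwoRank ↥(Kb w) := by
    obtain ⟨n, hn, hne⟩ := h.exists_conj hw
    have hg := h.conj_good hw hn
    refine ⟨⟨π w, Subgroup.mem_map_of_mem _ (mem_K hw)⟩,
      ⟨π (n * w * n⁻¹), Subgroup.mem_map_of_mem _
        (Subgroup.normalClosure_normal.conj_mem _ (mem_K hw) n)⟩, ?_, ?_, ?_, ?_, ?_, ?_⟩
    · intro e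
      have := h.conj_not_zk hw 1
      rw [one_mul, inv_one, mul_one] at this
      exact this (congrArg Subtype.val e)
    · exact fun e => h.conj_not_zk hw n (congrArg Subtype.val e)
    · intro e
      have e' : π w = π (n * w * n⁻¹) := congrArg Subtype.val e
      have hm := QuotientGroup.eq.1 e'
      rw [inv_eq_of_mul_eq_one_right hw.sq] at hm
      rcases h.zk_invol hw hm (by
        rw [mul_assoc, ← mul_assoc (n * w * n⁻¹), ← hg.cent w hw.mem, mul_assoc w (n * w * n⁻¹),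
          hg.sq, mul_one, hw.sq]) with h' | h'
      · exact hne (mul_left_cancel (h'.trans hw.sq.symm))
      · refine h.conj_ne_mul hw hn (mul_left_cancel (a := w) ?_)
        rw [h', ← mul_assoc, hw.sq, one_mul]
    · exact Subtype.ext (show π w * π w = 1 by rw [← map_mul, hw.sq, map_one])
    · exact Subtype.ext (show π (n * w * n⁻¹) * π (n * w * n⁻¹) = 1 by rw [← map_mul, hg.sq, map_one])
    · exact Subtype.ext (show π w * π (n * w * n⁻¹) = π (n * w * n⁻¹) * π w by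
        rw [← map_mul, ← map_mul, hg.cent w hw.mem])
  obtain ⟨t, P, hh, hP2, L, hLn, hLo, hPL, htL, hcase⟩ := good hP hMain hSE h2 hc
  have hL : L = ⊤ := by
    refine top_le_iff.1 (h.closure_Db hw ▸ (Subgroup.closure_le _).2 fun d hd => ?_)
    haveI := hLn
    have h1 : (d : ↥(Kb w) ⧸ L) ^ 2 = 1 := by
      rw [← QuotientGroup.mk_pow, ← hS.invol d hd, pow_orderOf_eq_one]; rfl
    have h3 : (d : ↥(Kb w) ⧸ L) ^ L.index = 1 := pow_card_eq_one'
    refine (QuotientGroup.eq_one_iff _).1 (orderOf_eq_one_iff.1 ?_)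
    exact Nat.eq_one_of_dvd_coprimes (Nat.coprime_two_left.2 hLo) (orderOf_dvd_of_pow_eq_one h1)
      (orderOf_dvd_of_pow_eq_one h3)
  subst hL
  have hodd := hh.setup.odd_card
  refine ⟨?_, t, P, hh.setup, hP2, fun d hd htd s hs => ?_⟩
  · rcases hcase with ⟨-, -, F, i, j, hF, ⟨n, hn, hq⟩, ⟨e⟩⟩ | ⟨-, -, hz⟩ |
      ⟨-, -, -, F, i, j, n, hn, -, hF, ⟨e⟩⟩
    · exact .inl ⟨F, i, j, n, hn, hF.trans hq, ⟨Subgroup.topEquiv.symm.trans e⟩⟩
    · exact Target.congr Subgroup.topEquiv.symm (.inr (.inl hz))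
    · exact .inr (.inr ⟨F, i, j, n, hn, hF, ⟨Subgroup.topEquiv.symm.trans e⟩⟩)
  · have hk : ∀ e : ((⊤ : Subgroup ↥(Kb w)) ⊓ twoStab ↥(Kb w) ((1 : ↥(Kb w)) : ↥(Kb w) ⧸ Hb S w) t :
        Subgroup ↥(Kb w)) = kSet ((1 : ↥(Kb w)) : ↥(Kb w) ⧸ Hb S w) t, d * s * d⁻¹ = s := by
      intro e
      have hdk : d ∈ kSet ((1 : ↥(Kb w)) : ↥(Kb w) ⧸ Hb S w) t := by
        rw [← e]; exact ⟨Subgroup.mem_top _, hd⟩
      have h1 : d * d = 1 := by
        have := hdk.2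
        rw [htd] at this
        rw [mul_eq_one_iff_eq_inv]; exact this
      rw [Cfsg.Agent.Lib.RankOne.Involution.eq_one_of_sq hodd hd h1, one_mul, inv_one, mul_one]
    rcases hcase with ⟨-, e, -⟩ | ⟨-, e, -⟩ | ⟨-, hv, -⟩
    · exact hk e
    · exact hk e
    · have h1 := hv ⟨Subgroup.mem_top _, hd, Subgroup.mem_centralizer_singleton_iff.2
        (mul_inv_eq_iff_eq_mul.1 htd).symm⟩
      rw [mul_inv_eq_iff_eq_mul]
      exact (Subgroup.mem_centralizer_iff.1 h1.2 s hs).symm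

end Loc

end Cfsg.Agent.Inter3185
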