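import Cfsg.Agent.Lib.Inter3185.Cover
import Cfsg.Agent.Lib.Inter3185.Shape

/-!
# The shape of a Sylow 2-subgroup at a centraliser which is not 2-closed (helper88)
-/

set_option autoImplicit false
set_option linter.style.haveILetI false
set_option linter.unusedSectionVars false
set_option maxHeartbeats 1000000

namespace Cfsg.Agent.Inter3185

open Cfsg.Agent.Lib.Inv59.Basic

universe u u'

theorem Nab.congr {P : Type u} {P' : Type u'} [Group P] [Group P'] (e : P ≃* P') (h : Nab P) :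
    Nab P' := by
  have hc : ∀ x, e x ∈ Subgroup.center P' ↔ x ∈ Subgroup.center P := fun x => by
    simp only [Subgroup.mem_center_iff]
    exact ⟨fun hx g => e.injective (by rw [map_mul, map_mul, hx]), fun hx g => by
      obtain ⟨g, rfl⟩ := e.surjective g
      rw [← map_mul, ← map_mul, hx]⟩
  refine ⟨fun x => ?_, fun x => ?_, fun x y => ?_, fun z hz => ?_, ?_⟩
  · obtain ⟨x, rfl⟩ := e.surjective x
    rw [← map_mul, hc]; exact h.sq x
  · obtain ⟨x, rfl⟩ := e.surjective x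
    rw [← map_mul, e.map_eq_one_iff, hc, h.inv]
  · obtain ⟨x, rfl⟩ := e.surjective x
    obtain ⟨y, rfl⟩ := e.surjective y
    rw [← map_inv, ← map_inv, ← map_mul, ← map_mul, ← map_mul, hc]
    exact h.der x y
  · obtain ⟨z, rfl⟩ := e.surjective z
    have h1 := Subgroup.mem_map_of_mem e.toMonoidHom (h.le_der ((hc z).1 hz))
    have hle : (commutator P).map e.toMonoidHom ≤ commutator P' := by
      rw [commutator_def, commutator_def, Subgroup.map_commutator]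
      exact Subgroup.commutator_mono le_top le_top
    exact hle h1
  · obtain ⟨x, y, hxy⟩ := h.nab
    exact ⟨e x, e y, by rw [← map_mul, ← map_mul, e.injective.ne_iff]; exact hxy⟩

theorem KShape.congr {P : Type u} {P' : Type u'} [Group P] [Group P'] (e : P ≃* P')
    (h : KShape P) : KShape P' := by
  have hc : ∀ x, e x ∈ Subgroup.center P' ↔ x ∈ Subgroup.center P := fun x => by
    simp only [Subgroup.mem_center_iff]
    exact ⟨fun hx g => e.injective (by rw [map_mul, map_mul, hx]), fun hx g => by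
      obtain ⟨g, rfl⟩ := e.surjective g
      rw [← map_mul, ← map_mul, hx]⟩
  have hcard : Nat.card (Subgroup.center P') = Nat.card (Subgroup.center P) :=
    (Nat.card_congr (e.toEquiv.subtypeEquiv fun x => (hc x).symm)).symm
  refine ⟨hcard ▸ h.1, ?_⟩
  rcases h.2 with h2 | ⟨hn, h2⟩ | ⟨hn, h2, h3⟩
  · refine Or.inl fun x => ?_
    obtain ⟨x, rfl⟩ := e.surjective x
    rw [← map_mul, h2, map_one]
  · refine Or.inr (Or.inl ⟨hn.congr e, fun x y hxy => ?_⟩)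
    obtain ⟨x, rfl⟩ := e.surjective x
    obtain ⟨y, rfl⟩ := e.surjective y
    rw [← map_inv, ← map_mul, hc]
    exact h2 x y (e.injective (by rw [map_mul, map_mul]; exact hxy))
  · refine Or.inr (Or.inr ⟨hn.congr e, fun x hx z hz => ?_, ?_⟩)
    · obtain ⟨x, rfl⟩ := e.surjective x
      obtain ⟨z, rfl⟩ := e.surjective z
      obtain ⟨y, hy⟩ := h2 x (fun hh => hx ((hc x).2 hh)) z ((hc z).1 hz)
      exact ⟨e y, by rw [← hy, map_mul, map_mul, map_mul, map_inv, map_inv]⟩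
    · rw [hcard, ← Nat.card_congr e.toEquiv]; exact h3

open Cfsg.Agent.Lib.BenderSuzuki Cfsg.Agent.Lib.BenderConsumers23

variable {Q : Type u} [Group Q] [Finite Q]

/-- `S ∩ S^t`. -/
def S0 (S : Sylow 2 Q) (t : Q) : Subgroup Q :=
  (S : Subgroup Q) ⊓ (S : Subgroup Q).comap (MulAut.conj t⁻¹).toMonoidHom

theorem mem_S0 {S : Sylow 2 Q} {t s : Q} :
    s ∈ S0 S t ↔ s ∈ (S : Subgroup Q) ∧ t⁻¹ * s * t ∈ (S : Subgroup Q) := by
  simp [S0, Subgroup.mem_inf]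

/-- The data of the split case. -/
structure SplitHyp (S : Sylow 2 Q) (v w t : Q) : Prop where
  loc : Loc S v
  pick : Pick S v w
  zk : Zk (Kc w) = ⊥
  shape : KShape ↥((S : Subgroup Q) ⊓ Kc w)
  frame : Frame S w t

namespace SplitHyp

variable {S : Sylow 2 Q} {v w t : Q} (h : SplitHyp S v w t)
include h

local notation "SK" => (S : Subgroup Q) ⊓ Kc w

theorem v_notK : v ∉ Kc w := fun hv => h.loc.v_ne (Subgroup.mem_bot.1 (h.zk ▸
  Subgroup.mem_inf.2 ⟨hv, Subgroup.mem_centralizer_iff.2 fun g _ => h.loc.v_comm g⟩))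

theorem SK_conj {s x : Q} (hs : s ∈ NS S) (hx : x ∈ SK) : s * x * s⁻¹ ∈ SK :=
  Subgroup.mem_inf.2 ⟨(Subgroup.mem_normalizer_iff.1 hs x).1 hx.1,
    Subgroup.normalClosure_normal.conj_mem _ hx.2 s⟩

/-- The only involution of `S ∩ S^t` is `v`. -/
theorem S0_invol {s : Q} (hs : s ∈ S0 S t) (h2 : s * s = 1) : s = 1 ∨ s = v := by
  by_contra hne
  push Not at hne
  have htS : t • S = S := h.loc.uniq _ s (mem_S0.1 hs).1 (by
    rw [Sylow.coe_subgroup_smul, Subgroup.mem_pointwise_smul_iff_inv_smul_mem]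
    simpa [MulAut.smul_def, mul_assoc] using (mem_S0.1 hs).2) h2 hne.1 hne.2
  exact h.frame.tN (Sylow.smul_eq_iff_mem_normalizer.1 htS)

theorem disjoint {s : Q} (hs : s ∈ S0 S t) (hK : s ∈ Kc w) : s = 1 := by
  by_contra hne
  obtain ⟨n, hn, hn1⟩ := exists_invol_pow (S := ↥(S : Subgroup Q)) S.isPGroup'
    (x := ⟨s, (mem_S0.1 hs).1⟩) (fun e => hne (congrArg Subtype.val e))
  have hn' : s ^ n * s ^ n = 1 := congrArg Subtype.val hn
  rcases h.S0_invol (pow_mem hs n) hn' with e | e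
  · exact hn1 (Subtype.ext e)
  · exact h.v_notK (e ▸ pow_mem hK n)

theorem decomp {s : Q} (hs : s ∈ (S : Subgroup Q)) : ∃ p ∈ SK, ∃ s₀ ∈ S0 S t, p * s₀ = s := by
  have hsN : s ∈ NS S := Subgroup.le_normalizer hs
  have hk : s * t * s⁻¹ ∈ Kc w := Subgroup.normalClosure_normal.conj_mem _ h.frame.tK s
  have hkN : s * t * s⁻¹ ∉ NS S := fun hh => h.frame.tN (by
    have := mul_mem (mul_mem (inv_mem hsN) hh) hsN
    rwa [show s⁻¹ * (s * t * s⁻¹) * s = t by group] at this)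
  obtain ⟨x, hx, hxk⟩ := h.frame.dec _ hk hkN
  refine ⟨x, hx, x⁻¹ * s, mem_S0.2 ⟨mul_mem (inv_mem hx.1) hs, ?_⟩, by group⟩
  have h1 : t⁻¹ * (x⁻¹ * s) * t ∈ NS S := by
    have := mul_mem hxk hsN
    rwa [show (x * t)⁻¹ * (s * t * s⁻¹) * s = t⁻¹ * (x⁻¹ * s) * t by group] at this
  obtain ⟨i, hi⟩ := Loc.exists_pow_two S (mul_mem (inv_mem hx.1) hs)
  refine mem_sylow_of_normalizer S i ?_ h1
  rw [show t⁻¹ * (x⁻¹ * s) * t = t⁻¹ * (x⁻¹ * s) * t⁻¹⁻¹ by group, conj_pow, hi, mul_one,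
    mul_inv_cancel]

theorem S0_le : S0 S t ≤ (S : Subgroup Q) := inf_le_left

theorem invol_form {a : Q} (ha : a ∈ (S : Subgroup Q)) (h2 : a * a = 1) :
    ∃ p ∈ SK, p * p = 1 ∧ (a = p ∨ a = p * v) := by
  obtain ⟨p, hp, s, hs, rfl⟩ := h.decomp ha
  have hsN : s ∈ NS S := Subgroup.le_normalizer (mem_S0.1 hs).1
  have h1 : s * s = (p * (s * p * s⁻¹))⁻¹ := by
    refine eq_inv_of_mul_eq_one_right ?_
    rw [← h2]; group
  have hs2 : s * s = 1 := h.disjoint (mul_mem hs hs)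
    (h1 ▸ inv_mem (mul_mem hp.2 (h.SK_conj hsN hp).2))
  rcases h.S0_invol hs hs2 with rfl | rfl
  · exact ⟨p, hp, by simpa using h2, Or.inl (mul_one p)⟩
  · refine ⟨p, hp, ?_, Or.inr rfl⟩
    rw [← h2, mul_assoc p _ (p * _), ← mul_assoc _ p, ← h.loc.v_comm p, mul_assoc p _ _,
      h.loc.v_sq, mul_one]

theorem invImg {q : Q} (hq : q ∈ SK) (h2 : q * q = 1) (h1 : q ≠ 1) : InvImg S w q :=
  ⟨hq, by rw [h2]; exact one_mem _, fun e => h1 (Subgroup.mem_bot.1 (h.zk ▸ e))⟩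

theorem trans {a q : Q} (ha : a ∈ SK) (ha2 : a * a = 1) (ha1 : a ≠ 1) (hq : q ∈ SK)
    (hq2 : q * q = 1) (hq1 : q ≠ 1) : ∃ k ∈ Tor S w t, k * a * k⁻¹ = q := by
  obtain ⟨k, hk, hkz⟩ := h.frame.trans a q (h.invImg ha ha2 ha1) (h.invImg hq hq2 hq1)
  rw [h.zk, Subgroup.mem_bot, inv_mul_eq_one] at hkz
  exact ⟨k, hk, hkz⟩

theorem abel {a : Q} (ha : a ∈ SK) (ha2 : a * a = 1) {k k' : Q} (hk : k ∈ Tor S w t)
    (hk' : k' ∈ Tor S w t) : k * k' * a * (k * k')⁻¹ = k' * k * a * (k' * k)⁻¹ :=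
  (h.loc.tor_comm h.pick h.frame hk hk' ha ha2).symm

theorem fix_all {e a : Q} (he : e ∈ Tor S w t) (ha : a ∈ SK) (ha2 : a * a = 1) (ha1 : a ≠ 1)
    (hfix : e * a * e⁻¹ = a) {q : Q} (hq : q ∈ SK) (hq2 : q * q = 1) : e * q * e⁻¹ = q := by
  by_cases hq1 : q = 1
  · rw [hq1, mul_one, mul_inv_cancel]
  obtain ⟨k, hk, rfl⟩ := h.trans ha ha2 ha1 hq hq2 hq1
  calc e * (k * a * k⁻¹) * e⁻¹ = e * k * a * (e * k)⁻¹ := by group
    _ = k * e * a * (k * e)⁻¹ := h.abel ha ha2 he hk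
    _ = k * (e * a * e⁻¹) * k⁻¹ := by group
    _ = k * a * k⁻¹ := by rw [hfix]

theorem tor_conj {s k : Q} (hs : s ∈ S0 S t) (hk : k ∈ Tor S w t) :
    s * k * s⁻¹ ∈ Tor S w t := by
  obtain ⟨hkK, hkN, hkt⟩ := mem_tor.1 hk
  have hsN : s ∈ NS S := Subgroup.le_normalizer (mem_S0.1 hs).1
  refine mem_tor.2 ⟨Subgroup.normalClosure_normal.conj_mem _ hkK s,
    mul_mem (mul_mem hsN hkN) (inv_mem hsN), ?_⟩
  have hst : t⁻¹ * s * t ∈ NS S := Subgroup.le_normalizer (mem_S0.1 hs).2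
  rw [show t⁻¹ * (s * k * s⁻¹) * t = t⁻¹ * s * t * (t⁻¹ * k * t) * (t⁻¹ * s * t)⁻¹ by group]
  exact mul_mem (mul_mem hst hkt) (inv_mem hst)

theorem tor_odd {e : Q} (he : e ∈ Tor S w t) : Odd (orderOf e) := by
  obtain ⟨k, m, hm, hkm⟩ := Nat.exists_eq_pow_mul_and_not_dvd (orderOf_pos e).ne' 2 (by norm_num)
  obtain ⟨heK, heN, het⟩ := mem_tor.1 he
  have h2 : (e ^ m) ^ 2 ^ k = 1 := by rw [← pow_mul, mul_comm, ← hkm, pow_orderOf_eq_one]
  have h1 : e ^ m ∈ S0 S t := mem_S0.2 ⟨mem_sylow_of_normalizer S k h2 (pow_mem heN m), by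
    rw [show t⁻¹ * e ^ m * t = t⁻¹ * e ^ m * t⁻¹⁻¹ by group, ← conj_pow]
    refine mem_sylow_of_normalizer S k ?_ (pow_mem (by rw [inv_inv]; exact het) m)
    rw [← pow_mul, mul_comm, ← hkm, conj_pow, pow_orderOf_eq_one, mul_one, mul_inv_cancel]⟩
  exact Odd.of_dvd_nat (Nat.odd_iff.2 (by omega))
    (orderOf_dvd_of_pow_eq_one (h.disjoint h1 (pow_mem heK m)))

theorem nS : ((SK).subgroupOf (S : Subgroup Q)).Normal :=
  ⟨fun x hx g => h.SK_conj (Subgroup.le_normalizer g.2) hx⟩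

theorem center_of_comm {p : ↥(S : Subgroup Q)} (hp : (p : Q) ∈ SK) (hp2 : (p : Q) * p = 1)
    (hs : ∀ s ∈ S0 S t, s * p = p * s) : p ∈ Subgroup.center ↥(S : Subgroup Q) :=
  Subgroup.mem_center_iff.2 fun g => Subtype.ext (by
    obtain ⟨x, hx, s, hs', hxs⟩ := h.decomp g.2
    show (g : Q) * p = p * g
    rw [← hxs, mul_assoc, hs s hs', ← mul_assoc,
      h.loc.sq_zk_central h.pick h.frame hp (by rw [hp2]; exact one_mem _) x hx, mul_assoc])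

theorem cover_of {W : Subgroup ↥(S : Subgroup Q)} (hv : v ∈ (S : Subgroup Q))
    (hW : ∀ p : ↥(S : Subgroup Q), (p : Q) ∈ SK → (p : Q) * p = 1 →
      p ∈ Subgroup.center ↥(S : Subgroup Q) → p ∈ W) : Cover ⟨v, hv⟩ W := by
  intro a ha
  obtain ⟨p, hp, hp2, e | e⟩ := h.invol_form a.2 (congrArg Subtype.val ha.2)
  · exact Or.inl (hW a (by rw [e]; exact hp) (by rw [e]; exact hp2) ha.1)
  · refine Or.inr ?_
    have e' : ((a * ⟨v, hv⟩ : ↥(S : Subgroup Q)) : Q) = p := by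
      show (a : Q) * v = p
      rw [e, mul_assoc, h.loc.v_sq, mul_one]
    refine hW _ (by rw [e']; exact hp) (by rw [e']; exact hp2) (mul_mem ha.1 ?_)
    exact Subgroup.mem_center_iff.2 fun g => Subtype.ext (h.loc.v_comm g)

/-- Some element of `S ∩ S^t` moves an involution of `S ∩ K`. -/
theorem shapeW_of_moving {s z : Q} (hs : s ∈ S0 S t) (hz : z ∈ SK) (hz2 : z * z = 1)
    (hmove : s * z ≠ z * s) (hv : v ∈ (S : Subgroup Q)) :
    ShapeW (⟨v, hv⟩ : ↥(S : Subgroup Q)) := by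
  haveI : Fact (Nat.Prime 2) := ⟨Nat.prime_two⟩
  set Γ : Type u := ↥(S : Subgroup Q)
  let C₀ : Subgroup Γ := Subgroup.closure {c | ∃ a b : Γ, a * a = 1 ∧ c = a * b * a⁻¹ * b⁻¹}
  have hinv : ∀ α : MulAut Γ, ∀ x ∈ C₀, α x ∈ C₀ := by
    intro α
    suffices C₀ ≤ C₀.comap α.toMonoidHom from this
    refine (Subgroup.closure_le _).2 ?_
    rintro _ ⟨a, b, ha, rfl⟩
    refine Subgroup.subset_closure ⟨α a, α b, by rw [← map_mul, ha, map_one], ?_⟩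
    show α (a * b * a⁻¹ * b⁻¹) = _
    rw [map_mul, map_mul, map_mul, map_inv, map_inv]
  haveI : C₀.Normal := ⟨fun x hx g => hinv (MulAut.conj g) x hx⟩
  have hSKz : ∀ p ∈ SK, p * p = 1 → ∀ x ∈ SK, x * p = p * x := fun p hp hp2 x hx =>
    h.loc.sq_zk_central h.pick h.frame hp (by rw [hp2]; exact one_mem _) x hx
  -- the commutators are `[p, s]`
  let C₁ : Subgroup Q := Subgroup.closure
    {c | ∃ p ∈ SK, ∃ s ∈ S0 S t, p * p = 1 ∧ c = p * s * p⁻¹ * s⁻¹}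
  have hsq : ∀ p : Q, p * p = 1 → ∀ g : Q, g * p * g⁻¹ * (g * p * g⁻¹) = 1 := fun p hp g => by
    rw [show g * p * g⁻¹ * (g * p * g⁻¹) = g * (p * p) * g⁻¹ by group, hp, mul_one, mul_inv_cancel]
  have hC01 : C₀.map (S : Subgroup Q).subtype ≤ C₁ := by
    rw [Subgroup.map_le_iff_le_comap]
    refine (Subgroup.closure_le _).2 ?_
    rintro _ ⟨a, b, ha, rfl⟩
    obtain ⟨p, hp, hp2, hap⟩ := h.invol_form a.2 (congrArg Subtype.val ha)
    obtain ⟨x, hx, s', hs', hxs⟩ := h.decomp b.2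
    have hap' : (a : Q) * b * (a : Q)⁻¹ = p * b * p⁻¹ := by
      rcases hap with e | e <;> rw [e]
      rw [mul_inv_rev, inv_eq_of_mul_eq_one_right h.loc.v_sq]
      calc p * v * (b : Q) * (v * p⁻¹) = p * ((b : Q) * v * v) * p⁻¹ := by
            rw [h.loc.v_comm (b : Q)]; group
        _ = p * b * p⁻¹ := by rw [mul_assoc (b : Q), h.loc.v_sq, mul_one]
    show (a : Q) * b * (a : Q)⁻¹ * (b : Q)⁻¹ ∈ C₁
    have hq : s' * p⁻¹ * s'⁻¹ ∈ SK := h.SK_conj (Subgroup.le_normalizer (mem_S0.1 hs').1) (inv_mem hp)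
    have hq2 : s' * p⁻¹ * s'⁻¹ * (s' * p⁻¹ * s'⁻¹) = 1 :=
      hsq _ (by rw [← mul_inv_rev, hp2, inv_one]) s'
    rw [hap', ← hxs, show p * (x * s') * p⁻¹ * (x * s')⁻¹ = p * (x * (s' * p⁻¹ * s'⁻¹)) * x⁻¹ by group,
      hSKz _ hq hq2 x hx, ← mul_assoc, mul_assoc (p * (s' * p⁻¹ * s'⁻¹)), mul_inv_cancel, mul_one]
    exact Subgroup.subset_closure ⟨p, hp, s', hs', hp2, by group⟩
  have hC10 : ∀ c ∈ C₁, ∃ hc : c ∈ (S : Subgroup Q), (⟨c, hc⟩ : Γ) ∈ C₀ := by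
    intro c hc
    have : C₁ ≤ C₀.map (S : Subgroup Q).subtype := (Subgroup.closure_le _).2 (by
      rintro _ ⟨p, hp, s', hs', hp2, rfl⟩
      exact ⟨_, Subgroup.subset_closure ⟨⟨p, hp.1⟩, ⟨s', (mem_S0.1 hs').1⟩, Subtype.ext hp2, rfl⟩, rfl⟩)
    obtain ⟨c', hc', rfl⟩ := this hc
    exact ⟨c'.2, hc'⟩
  have hC1K : C₁ ≤ SK := by
    refine (Subgroup.closure_le _).2 ?_
    rintro _ ⟨p, hp, s', hs', -, rfl⟩
    rw [SetLike.mem_coe, show p * s' * p⁻¹ * s'⁻¹ = p * (s' * p⁻¹ * s'⁻¹) by group]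
    exact mul_mem hp (h.SK_conj (Subgroup.le_normalizer (mem_S0.1 hs').1) (inv_mem hp))
  have hne : C₀ ≠ ⊥ := by
    intro e
    have h1 : (⟨z, hz.1⟩ : Γ) * ⟨s, (mem_S0.1 hs).1⟩ * (⟨z, hz.1⟩ : Γ)⁻¹ * (⟨s, (mem_S0.1 hs).1⟩ : Γ)⁻¹ ∈ C₀ :=
      Subgroup.subset_closure ⟨_, _, Subtype.ext hz2, rfl⟩
    rw [e, Subgroup.mem_bot] at h1
    exact hmove (mul_inv_eq_iff_eq_mul.1 (mul_inv_eq_one.1 (congrArg Subtype.val h1 :))).symm
  obtain ⟨a₀, ha₀, ha₀c, ha₀1⟩ := exists_central_mem S.isPGroup' C₀ hne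
  obtain ⟨n, hn, hn1⟩ := exists_invol_pow S.isPGroup' ha₀1
  set a := a₀ ^ n
  have haC : (a : Q) ∈ C₁ := hC01 ⟨a, pow_mem ha₀ n, rfl⟩
  have haK : (a : Q) ∈ SK := hC1K haC
  have ha2 : (a : Q) * a = 1 := congrArg Subtype.val hn
  have ha1 : (a : Q) ≠ 1 := fun e => hn1 (Subtype.ext e)
  have hac : ∀ g ∈ (S : Subgroup Q), g * (a : Q) = a * g := fun g hg =>
    congrArg Subtype.val (Subgroup.mem_center_iff.1 (pow_mem ha₀c n) ⟨g, hg⟩)
  refine ⟨C₀ ⊓ Subgroup.center Γ, fun α x hx => ⟨hinv α x hx.1, ?_⟩,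
    fun hh => h.v_notK (hC1K (hC01 ⟨_, hh.1, rfl⟩)).2, ?_⟩
  · refine Subgroup.mem_center_iff.2 fun g => ?_
    obtain ⟨g, rfl⟩ := α.surjective g
    rw [← map_mul, ← map_mul, Subgroup.mem_center_iff.1 hx.2 g]
  refine h.cover_of hv fun p hp hp2 hpc => Subgroup.mem_inf.2 ⟨?_, hpc⟩
  by_cases hp1 : (p : Q) = 1
  · rw [show p = 1 from Subtype.ext hp1]; exact one_mem _
  obtain ⟨k, hk, hka⟩ := h.trans haK ha2 ha1 hp hp2 hp1
  obtain ⟨hkK, hkN, -⟩ := mem_tor.1 hk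
  have hpS : ∀ g ∈ (S : Subgroup Q), g * (p : Q) = p * g := fun g hg =>
    congrArg Subtype.val (Subgroup.mem_center_iff.1 hpc ⟨g, hg⟩)
  have hk1 : C₁ ≤ C₁.comap (MulAut.conj k).toMonoidHom := by
    refine (Subgroup.closure_le _).2 ?_
    rintro _ ⟨q, hq, s', hs', hq2, rfl⟩
    show k * (q * s' * q⁻¹ * s'⁻¹) * k⁻¹ ∈ C₁
    have hs'S := (mem_S0.1 hs').1
    have he : k⁻¹ * (s' * k * s'⁻¹) ∈ Tor S w t := mul_mem (inv_mem hk) (h.tor_conj hs' hk)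
    have hefix : k⁻¹ * (s' * k * s'⁻¹) * (a : Q) * (k⁻¹ * (s' * k * s'⁻¹))⁻¹ = a := by
      calc k⁻¹ * (s' * k * s'⁻¹) * (a : Q) * (k⁻¹ * (s' * k * s'⁻¹))⁻¹
          = k⁻¹ * (s' * (k * (s'⁻¹ * a * s') * k⁻¹) * s'⁻¹) * k := by group
        _ = k⁻¹ * (s' * (p : Q) * s'⁻¹) * k := by
            rw [mul_assoc s'⁻¹ (a : Q) s', ← hac s' hs'S, inv_mul_cancel_left, hka]
        _ = a := by rw [hpS s' hs'S, mul_inv_cancel_right, ← hka]; group
    set q' := s' * q⁻¹ * s'⁻¹ with hq'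
    have hqK : q' ∈ SK := h.SK_conj (Subgroup.le_normalizer hs'S) (inv_mem hq)
    have hq'2 : q' * q' = 1 := hsq _ (by rw [← mul_inv_rev, hq2, inv_one]) s'
    have h3 := h.fix_all he haK ha2 ha1 hefix hqK hq'2
    have h4 : s' * (k * q⁻¹ * k⁻¹) * s'⁻¹ = k * q' * k⁻¹ := by
      calc s' * (k * q⁻¹ * k⁻¹) * s'⁻¹
          = k * (k⁻¹ * (s' * k * s'⁻¹) * q' * (k⁻¹ * (s' * k * s'⁻¹))⁻¹) * k⁻¹ := by rw [hq']; group
        _ = k * q' * k⁻¹ := by rw [h3]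
    refine Subgroup.subset_closure ⟨k * q * k⁻¹, h.SK_conj hkN hq, s', hs', hsq q hq2 k, ?_⟩
    calc k * (q * s' * q⁻¹ * s'⁻¹) * k⁻¹ = k * q * k⁻¹ * (k * q' * k⁻¹) := by rw [hq']; group
      _ = k * q * k⁻¹ * (s' * (k * q⁻¹ * k⁻¹) * s'⁻¹) := by rw [h4]
      _ = k * q * k⁻¹ * s' * (k * q * k⁻¹)⁻¹ * s'⁻¹ := by group
  obtain ⟨hc, hc'⟩ := hC10 _ (show (p : Q) ∈ C₁ by rw [← hka]; exact hk1 haC)
  exact hc'

/-- Suzuki type: `S ∩ S^t` centralises `S ∩ K` once it centralises its involutions. -/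
theorem sz_comm (hn : Nab ↥(SK))
    (hsz : ∀ x y : ↥(SK), x * x = y * y → x⁻¹ * y ∈ Subgroup.center ↥(SK))
    (hfix : ∀ s ∈ S0 S t, ∀ z ∈ SK, z * z = 1 → s * z = z * s) :
    ∀ s ∈ S0 S t, ∀ x ∈ SK, s * x = x * s := by
  have hsq : ∀ x ∈ SK, x * x * (x * x) = 1 := fun x hx => by
    exact congrArg Subtype.val ((hn.inv (⟨x, hx⟩ * ⟨x, hx⟩)).2 (hn.sq ⟨x, hx⟩))
  have hzc : ∀ z ∈ SK, z * z = 1 → ∀ x ∈ SK, x * z = z * x := fun z hz hz2 x hx =>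
    congrArg Subtype.val (Subgroup.mem_center_iff.1 ((hn.inv ⟨z, hz⟩).1 (Subtype.ext hz2)) ⟨x, hx⟩)
  -- an element fixing the squares moves everything inside its coset modulo the involutions
  have hφ : ∀ g ∈ NS S, (∀ z ∈ SK, z * z = 1 → g * z * g⁻¹ = z) → ∀ x ∈ SK,
      x⁻¹ * (g * x * g⁻¹) * (x⁻¹ * (g * x * g⁻¹)) = 1 ∧ x⁻¹ * (g * x * g⁻¹) ∈ SK := by
    intro g hg hgfix x hx
    have hgx : g * x * g⁻¹ ∈ SK := h.SK_conj hg hx
    refine ⟨?_, mul_mem (inv_mem hx) hgx⟩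
    have h1 := hsz ⟨x, hx⟩ ⟨_, hgx⟩ (Subtype.ext (by
      show x * x = g * x * g⁻¹ * (g * x * g⁻¹)
      rw [show g * x * g⁻¹ * (g * x * g⁻¹) = g * (x * x) * g⁻¹ by group,
        hgfix _ (mul_mem hx hx) (hsq x hx)]))
    exact congrArg Subtype.val ((hn.inv _).2 h1)
  have hodd : ∀ e ∈ Tor S w t, (∀ z ∈ SK, z * z = 1 → e * z * e⁻¹ = z) → ∀ x ∈ SK,
      e * x * e⁻¹ = x := by
    intro e he hefix x hx
    obtain ⟨hz2, hzK⟩ := hφ e (mem_tor.1 he).2.1 hefix x hx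
    set z := x⁻¹ * (e * x * e⁻¹) with hz
    have key : ∀ n : ℕ, e ^ n * x * (e ^ n)⁻¹ = x * z ^ n := by
      intro n
      induction n with
      | zero => simp
      | succ n ih =>
        have hzn : e * z ^ n * e⁻¹ = z ^ n := by
          rw [← conj_pow, hefix z hzK hz2]
        calc e ^ (n + 1) * x * (e ^ (n + 1))⁻¹ = e * (e ^ n * x * (e ^ n)⁻¹) * e⁻¹ := by
              rw [pow_succ']; group
          _ = e * x * e⁻¹ * (e * z ^ n * e⁻¹) := by rw [ih]; group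
          _ = x * (z * z ^ n) := by
            rw [hzn, show e * x * e⁻¹ = x * z by rw [hz]; group, mul_assoc]
          _ = x * z ^ (n + 1) := by rw [pow_succ']
    have h1 := key (orderOf e)
    rw [pow_orderOf_eq_one, one_mul, inv_one, mul_one] at h1
    obtain ⟨i, hi⟩ := h.tor_odd he
    rw [hi, pow_succ, pow_mul, sq, hz2, one_pow, one_mul, hz, mul_inv_cancel_left] at h1
    exact h1.symm
  intro s hs
  have hsN : s ∈ NS S := Subgroup.le_normalizer (mem_S0.1 hs).1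
  have hsfix : ∀ z ∈ SK, z * z = 1 → s * z * s⁻¹ = z := fun z hz hz2 => by
    rw [hfix s hs z hz hz2, mul_inv_cancel_right]
  have hsfix' : ∀ z ∈ SK, z * z = 1 → s⁻¹ * z * s = z := fun z hz hz2 => by
    rw [mul_assoc, ← hfix s hs z hz hz2, inv_mul_cancel_left]
  set φ : Q → Q := fun x => x⁻¹ * (s * x * s⁻¹) with hφdef
  have hequiv : ∀ k ∈ Tor S w t, ∀ x ∈ SK, φ (k * x * k⁻¹) = k * φ x * k⁻¹ := by
    intro k hk x hx
    obtain ⟨hkK, hkN, -⟩ := mem_tor.1 hk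
    have he : k⁻¹ * (s⁻¹ * k * s⁻¹⁻¹) ∈ Tor S w t :=
      mul_mem (inv_mem hk) (h.tor_conj (inv_mem hs) hk)
    have hefix : ∀ z ∈ SK, z * z = 1 →
        k⁻¹ * (s⁻¹ * k * s⁻¹⁻¹) * z * (k⁻¹ * (s⁻¹ * k * s⁻¹⁻¹))⁻¹ = z := by
      intro z hz hz2
      calc k⁻¹ * (s⁻¹ * k * s⁻¹⁻¹) * z * (k⁻¹ * (s⁻¹ * k * s⁻¹⁻¹))⁻¹
          = k⁻¹ * (s⁻¹ * (k * (s * z * s⁻¹) * k⁻¹) * s) * k := by group
        _ = k⁻¹ * (k * z * k⁻¹) * k := by
            rw [hsfix z hz hz2, hsfix' _ (h.SK_conj hkN hz) (by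
              rw [show k * z * k⁻¹ * (k * z * k⁻¹) = k * (z * z) * k⁻¹ by group, hz2, mul_one,
                mul_inv_cancel])]
        _ = z := by group
    have h2 : s * (k * x * k⁻¹) * s⁻¹ = k * (s * x * s⁻¹) * k⁻¹ := by
      have h3 := hodd _ he hefix _ (h.SK_conj hsN hx)
      calc s * (k * x * k⁻¹) * s⁻¹
          = s * (k * x * k⁻¹) * s⁻¹ := rfl
        _ = s * (k * (k⁻¹ * (s⁻¹ * k * s⁻¹⁻¹) * (x) *
              (k⁻¹ * (s⁻¹ * k * s⁻¹⁻¹))⁻¹) * k⁻¹) * s⁻¹ := by rw [hodd _ he hefix x hx]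
        _ = k * (s * x * s⁻¹) * k⁻¹ := by group
    simp only [hφdef, h2]
    group
  intro x₀ hx₀
  by_contra hne
  obtain ⟨hz2, hzK⟩ := hφ s hsN hsfix x₀ hx₀
  have hφ1 : φ x₀ ≠ 1 := fun e => hne (mul_inv_eq_iff_eq_mul.1 (inv_mul_eq_one.1 e).symm)
  have hx₀2 : x₀ * x₀ ≠ 1 := fun e => hne (hfix s hs x₀ hx₀ e)
  obtain ⟨t₀, ht₀, ht₀x⟩ := h.trans hzK hz2 hφ1 (mul_mem hx₀ hx₀) (hsq x₀ hx₀) hx₀2
  have hhom : ∀ x ∈ SK, t₀ * φ x * t₀⁻¹ = x * x := by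
    intro x hx
    by_cases hx2 : x * x = 1
    · simp only [hφdef]
      rw [hsfix x hx hx2, inv_mul_cancel, mul_one, mul_inv_cancel, hx2]
    obtain ⟨k, hk, hkx⟩ := h.trans (mul_mem hx₀ hx₀) (hsq x₀ hx₀) hx₀2 (mul_mem hx hx) (hsq x hx) hx2
    have hkN := (mem_tor.1 hk).2.1
    set y := k * x₀ * k⁻¹ with hy
    have hyK : y ∈ SK := h.SK_conj hkN hx₀
    have hd := hsz ⟨y, hyK⟩ ⟨x, hx⟩ (Subtype.ext (by
      show y * y = x * x
      rw [← hkx, hy]; group))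
    have hd2 : y⁻¹ * x * (y⁻¹ * x) = 1 := congrArg Subtype.val ((hn.inv _).2 hd)
    have hdK : y⁻¹ * x ∈ SK := mul_mem (inv_mem hyK) hx
    have hφx : φ x = φ y := by
      have e : s * x * s⁻¹ = s * y * s⁻¹ * (y⁻¹ * x) := by
        conv_rhs => rw [← hsfix _ hdK hd2]
        group
      simp only [hφdef, e]
      obtain ⟨hw2, hwK⟩ := hφ s hsN hsfix y hyK
      calc x⁻¹ * (s * y * s⁻¹ * (y⁻¹ * x))
          = x⁻¹ * (y * ((y⁻¹ * (s * y * s⁻¹)) * (y⁻¹ * x))) := by group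
        _ = x⁻¹ * (y * ((y⁻¹ * x) * (y⁻¹ * (s * y * s⁻¹)))) := by
            rw [hzc _ hdK hd2 _ hwK]
        _ = y⁻¹ * (s * y * s⁻¹) := by group
    rw [hφx, hy, hequiv k hk x₀ hx₀]
    calc t₀ * (k * φ x₀ * k⁻¹) * t₀⁻¹ = t₀ * k * φ x₀ * (t₀ * k)⁻¹ := by group
      _ = k * t₀ * φ x₀ * (k * t₀)⁻¹ := h.abel hzK hz2 ht₀ hk
      _ = k * (t₀ * φ x₀ * t₀⁻¹) * k⁻¹ := by group
      _ = x * x := by rw [ht₀x, hkx]
  obtain ⟨x, y, hxy⟩ := hn.nab
  refine hxy (Subtype.ext ?_)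
  show (x : Q) * y = y * x
  have h1 := hhom ((x : Q) * y) (mul_mem x.2 y.2)
  have h2 : φ ((x : Q) * y) = φ x * φ y := by
    obtain ⟨ha2, haK⟩ := hφ s hsN hsfix x x.2
    simp only [hφdef]
    calc ((x : Q) * y)⁻¹ * (s * ((x : Q) * y) * s⁻¹)
        = (y : Q)⁻¹ * ((x : Q)⁻¹ * (s * x * s⁻¹)) * (s * y * s⁻¹) := by group
      _ = (x : Q)⁻¹ * (s * x * s⁻¹) * (y : Q)⁻¹ * (s * y * s⁻¹) := by
          rw [hzc _ haK ha2 _ (inv_mem y.2)]
      _ = _ := by group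
  rw [h2, show t₀ * (φ x * φ y) * t₀⁻¹ = t₀ * φ x * t₀⁻¹ * (t₀ * φ y * t₀⁻¹) by group,
    hhom x x.2, hhom y y.2] at h1
  calc (x : Q) * y = (x : Q)⁻¹ * ((x : Q) * x * ((y : Q) * y)) * (y : Q)⁻¹ := by group
    _ = y * x := by rw [h1]; group

/-- The shape of `S`. -/
theorem shapes (hnab : ∃ a b : ↥(S : Subgroup Q), a * b ≠ b * a) (hv : v ∈ (S : Subgroup Q)) :
    ShapeW (⟨v, hv⟩ : ↥(S : Subgroup Q)) ∨ ShapeR (⟨v, hv⟩ : ↥(S : Subgroup Q)) ∨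
      ShapeU (⟨v, hv⟩ : ↥(S : Subgroup Q)) := by
  by_cases hmove : ∃ s ∈ S0 S t, ∃ z ∈ SK, z * z = 1 ∧ s * z ≠ z * s
  · obtain ⟨s, hs, z, hz, hz2, hne⟩ := hmove
    exact Or.inl (h.shapeW_of_moving hs hz hz2 hne hv)
  push Not at hmove
  have hSKn := h.nS
  have hzcS : ∀ p : ↥(S : Subgroup Q), (p : Q) ∈ SK → (p : Q) * p = 1 →
      p ∈ Subgroup.center ↥(S : Subgroup Q) := fun p hp hp2 =>
    h.center_of_comm hp hp2 fun s hs => hmove s hs p hp hp2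
  by_cases hab : ∀ a ∈ S0 S t, ∀ b ∈ S0 S t, a * b = b * a
  · -- `S / (S ∩ K)` is abelian
    rcases h.shape.2 with hel | hn
    · exfalso
      obtain ⟨a, b, hne⟩ := hnab
      obtain ⟨p, hp, s, hs, hps⟩ := h.decomp a.2
      obtain ⟨p', hp', s', hs', hps'⟩ := h.decomp b.2
      refine hne (Subtype.ext ?_)
      have hp2 : ∀ q ∈ SK, q * q = 1 := fun q hq => congrArg Subtype.val (hel ⟨q, hq⟩)
      have c1 : Commute p p' := congrArg Subtype.val (comm_of_forall_sq hel ⟨p, hp⟩ ⟨p', hp'⟩)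
      have c2 : Commute p s' := (hmove s' hs' p hp (hp2 p hp)).symm
      have c3 : Commute s p' := hmove s hs p' hp' (hp2 p' hp')
      have c4 : Commute s s' := hab s hs s' hs'
      show (a : Q) * b = b * a
      rw [← hps, ← hps']
      exact ((c1.mul_right c2).mul_left (c3.mul_right c4)).eq
    · have hn' : Nab ↥(SK) := by rcases hn with ⟨x, -⟩ | ⟨x, -⟩ <;> exact x
      refine Or.inl ⟨commutator ↥(S : Subgroup Q) ⊓ Subgroup.center ↥(S : Subgroup Q),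
        fun α x hx => ⟨?_, ?_⟩, fun hh => ?_, h.cover_of hv fun p hp hp2 hpc =>
          Subgroup.mem_inf.2 ⟨?_, hpc⟩⟩
      · have := Subgroup.mem_map_of_mem α.toMonoidHom hx.1
        rwa [commutator_def, Subgroup.map_commutator, Subgroup.map_top_of_surjective _ α.surjective,
          ← commutator_def] at this
      · refine Subgroup.mem_center_iff.2 fun g => ?_
        obtain ⟨g, rfl⟩ := α.surjective g
        rw [← map_mul, ← map_mul, Subgroup.mem_center_iff.1 hx.2 g]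
      · refine h.v_notK ?_
        have hle : commutator ↥(S : Subgroup Q) ≤ (SK).subgroupOf (S : Subgroup Q) := by
          rw [commutator_def, Subgroup.commutator_le]
          intro a _ b _
          obtain ⟨p, hp, s, hs, hps⟩ := h.decomp a.2
          obtain ⟨p', hp', s', hs', hps'⟩ := h.decomp b.2
          show (a : Q) * b * (a : Q)⁻¹ * (b : Q)⁻¹ ∈ SK
          have hsN : s ∈ NS S := Subgroup.le_normalizer (mem_S0.1 hs).1
          have hsN' : s' ∈ NS S := Subgroup.le_normalizer (mem_S0.1 hs').1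
          rw [← hps, ← hps', show p * s * (p' * s') * (p * s)⁻¹ * (p' * s')⁻¹ =
            p * (s * p' * s⁻¹) * ((s * s') * s⁻¹ * p⁻¹ * (s * s'⁻¹ * s⁻¹)) *
              (s * s' * s⁻¹ * s'⁻¹) * p'⁻¹ by group]
          have h1 : s * s' * s⁻¹ = s' := by rw [hab s hs s' hs', mul_inv_cancel_right]
          have h2 : s * s'⁻¹ * s⁻¹ = s'⁻¹ := by
            rw [show s * s'⁻¹ * s⁻¹ = (s * s' * s⁻¹)⁻¹ by group, h1]
          rw [h1, h2, mul_inv_cancel, mul_one]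
          exact mul_mem (mul_mem (mul_mem hp (h.SK_conj hsN hp')) (h.SK_conj hsN' (inv_mem hp)))
            (inv_mem hp')
        exact (hle hh.1).2
      · have h1 : (⟨(p : Q), hp⟩ : ↥(SK)) ∈ commutator ↥(SK) :=
          hn'.le_der ((hn'.inv _).1 (Subtype.ext hp2))
        have h2 := Subgroup.mem_map_of_mem (Subgroup.inclusion (inf_le_left : SK ≤ (S : Subgroup Q))) h1
        rw [commutator_def, Subgroup.map_commutator] at h2
        exact Subgroup.commutator_mono le_top le_top h2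
  push Not at hab
  obtain ⟨a, ha, b, hb, hne⟩ := hab
  have hR : (∀ s ∈ S0 S t, ∀ x ∈ SK, s * x = x * s) → ShapeR (⟨v, hv⟩ : ↥(S : Subgroup Q)) := by
    intro hcomm
    refine ⟨(SK).subgroupOf _, (S0 S t).subgroupOf _, ?_, fun hh => h.v_notK hh.2,
      fun p hp r hr => Subtype.ext (hcomm r hr p hp).symm, fun g => ?_, fun r hr hr2 => ?_,
      ⟨a, (mem_S0.1 ha).1⟩, ha, ⟨b, (mem_S0.1 hb).1⟩, hb, fun e => hne (congrArg Subtype.val e)⟩
    · show v ∈ S0 S t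
      exact mem_S0.2 ⟨hv, by rw [h.loc.v_comm t⁻¹, mul_assoc, inv_mul_cancel, mul_one]; exact hv⟩
    · obtain ⟨p, hp, s, hs, hps⟩ := h.decomp g.2
      exact ⟨⟨p, hp.1⟩, hp, ⟨s, (mem_S0.1 hs).1⟩, hs, Subtype.ext hps⟩
    · rcases h.S0_invol hr (congrArg Subtype.val hr2) with e | e
      · exact Or.inl (Subtype.ext e)
      · exact Or.inr (Subtype.ext e)
  rcases h.shape.2 with hel | ⟨hn, hsz⟩ | ⟨hn, hfull, hcard⟩
  · exact Or.inr (Or.inl (hR fun s hs x hx => hmove s hs x hx (congrArg Subtype.val (hel ⟨x, hx⟩))))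
  · exact Or.inr (Or.inl (hR (h.sz_comm hn hsz hmove)))
  refine Or.inr (Or.inr ⟨(SK).subgroupOf _, hSKn, fun hh => h.v_notK hh.2,
    h.cover_of hv fun p hp _ _ => hp, fun g hg => ?_, fun x hx => ?_, fun x hx hxc => ?_,
    fun x hx y hy => ?_, fun x hx hxc z hz hzc => ?_, ?_⟩)
  · obtain ⟨p, hp, s, hs, hps⟩ := h.decomp g.2
    have hsN : s ∈ NS S := Subgroup.le_normalizer (mem_S0.1 hs).1
    have hgg : (g : Q) * g ∈ SK := hg
    have h1 : s * s = (p * (s * p * s⁻¹))⁻¹ * ((g : Q) * g) := by rw [← hps]; group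
    have hss := h.disjoint (mul_mem hs hs)
      (h1 ▸ mul_mem (inv_mem (mul_mem hp.2 (h.SK_conj hsN hp).2)) hgg.2)
    rcases h.S0_invol hs hss with e | e
    · left
      show (g : Q) ∈ SK
      rw [← hps, e, mul_one]; exact hp
    · right
      show (g : Q) * v ∈ SK
      rw [← hps, e, mul_assoc, h.loc.v_sq, mul_one]; exact hp
  · exact hzcS _ (mul_mem hx hx :)
      (congrArg Subtype.val ((hn.inv (⟨_, hx⟩ * ⟨_, hx⟩)).2 (hn.sq ⟨_, hx⟩)))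
  · refine Subtype.ext (congrArg Subtype.val ((hn.inv ⟨_, hx⟩).2 (Subgroup.mem_center_iff.2 fun y =>
      Subtype.ext (congrArg Subtype.val (Subgroup.mem_center_iff.1 hxc ⟨y, y.2.1⟩) :))) :)
  · exact hzcS _ (mul_mem (mul_mem (mul_mem hx hy) (inv_mem hx)) (inv_mem hy) :)
      (congrArg Subtype.val ((hn.inv _).2 (hn.der ⟨_, hx⟩ ⟨_, hy⟩)) :)
  · have hzc' : (⟨(z : Q), hz⟩ : ↥(SK)) ∈ Subgroup.center ↥(SK) :=
      Subgroup.mem_center_iff.2 fun y => Subtype.ext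
        (congrArg Subtype.val (Subgroup.mem_center_iff.1 hzc ⟨y, y.2.1⟩) :)
    obtain ⟨y, hy⟩ := hfull ⟨(x : Q), hx⟩ (fun hh => hxc (hzcS x hx
      (congrArg Subtype.val ((hn.inv _).2 hh)))) _ hzc'
    exact ⟨⟨y, y.2.1⟩, y.2, Subtype.ext (congrArg Subtype.val hy :)⟩
  · have e1 : Nat.card ↥((SK).subgroupOf (S : Subgroup Q)) = Nat.card ↥(SK) :=
      Nat.card_congr (Subgroup.subgroupOfEquivOfLe inf_le_left).toEquiv
    rw [e1]
    refine le_trans (Nat.mul_le_mul_left _ ?_) hcard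
    refine Nat.card_le_card_of_injective (fun x =>
      (⟨⟨((x : ↥(S : Subgroup Q)) : Q), x.2.1⟩, Subgroup.mem_center_iff.2 fun y => Subtype.ext
        (congrArg Subtype.val (Subgroup.mem_center_iff.1 x.2.2 ⟨y, y.2.1⟩) :)⟩ :
        Subgroup.center ↥(SK))) fun x y e => ?_
    exact Subtype.ext (Subtype.ext (congrArg (fun q : Subgroup.center ↥(SK) => ((q : ↥(SK)) : Q)) e :))

end SplitHyp

end Cfsg.Agent.Inter3185
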