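import Mathlib
import Cfsg.Prelude.Def_SporadicB
import Cfsg.Prelude.Def_Transfer
import Mathlib.LinearAlgebra.Matrix.ProjectiveSpecialLinearGroup
import Cfsg.Prelude.Def_CaseTheorems
import Cfsg.Prelude.Def_Sz
import Cfsg.Prelude.Def_Sporadic

/-!
# The shared statement of the simple case of S3185 and S3308 (helper88)

`VHyp G`: a four-group containing a 2-central involution lies in a single Sylow 2-subgroup.
`SimpleStatement`: a nonabelian simple group with `VHyp` is one of the five families of S3185.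
-/

set_option autoImplicit false

open Cfsg

namespace Cfsg.Agent.Inter3185

/-- Any elementary abelian subgroup of order four with a 2-central involution lies in at most
one Sylow 2-subgroup. -/
def VHyp (G : Type*) [Group G] : Prop :=
  ∀ (S T : Sylow 2 G) (E : Subgroup G), E ≤ (S : Subgroup G) → E ≤ (T : Subgroup G) →
    IsElementaryAbelian 2 E → Nat.card E = 4 →
      ∀ z ∈ E, IsTwoCentralInvolution z → S = T

/-- The five families of S3185. -/
def Families (G : Type*) [Group G] : Prop :=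
  (∃ (n : ℕ) (F : Type) (_ : Field F) (_ : Fintype F), 2 ≤ n ∧ Fintype.card F = 2 ^ n ∧
      Nonempty (G ≃* Matrix.ProjectiveSpecialLinearGroup (Fin 2) F)) ∨
  (∃ (m : ℕ) (F : Type) (_ : Field F) (_ : Fintype F), 1 ≤ m ∧ Fintype.card F = 2 ^ (2 * m + 1) ∧
      Nonempty (G ≃* ↥(Cfsg.Lie.Sz F (2 ^ (m + 1))))) ∨
  (∃ (n : ℕ) (F : Type) (_ : Field F) (_ : Fintype F), 2 ≤ n ∧ Fintype.card F = 4 ^ n ∧
      Nonempty (G ≃* Cfsg.PSU 3 F (2 ^ n))) ∨
  (∃ (F : Type) (_ : Field F) (_ : Fintype F),
      (Fintype.card F % 8 = 3 ∨ Fintype.card F % 8 = 5) ∧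
      5 < Fintype.card F ∧ Nonempty (G ≃* Matrix.ProjectiveSpecialLinearGroup (Fin 2) F)) ∨
  Cfsg.IsJ1 G

universe u

/-- The simple case of S3185 and S3308. -/
def SimpleStatement : Prop :=
  ∀ (G : Type u) [Group G] [Finite G] [IsSimpleGroup G],
    ¬ IsMulCommutative G → VHyp G → Families G

end Cfsg.Agent.Inter3185
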